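import Cfsg.Agent.Lib.FischerThompson.Basic
import Cfsg.Agent.Lib.FischerUnique.Simple
import Cfsg.Agent.Lib.FischerType.Factor

/-!
The hypotheses of the Thompson subgroup theorem in type M(22).
-/

set_option autoImplicit false

namespace CfsgLib.FischerThompson

open Subgroup CfsgLib.U6Cover
open CfsgLib.ThreeTrans (link)
open CfsgLib.FischerType

variable {G : Type*} [Group G] [Finite G] {D : Set G}

/-- In type M(22) the centralisers of the members are double covers of one `PSU(6, 2)`. -/
theorem exists_ctx_of_typeM22 (S : Setting D) (h : Cfsg.IsOfTypeM22 G D)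
    (hcent : ∀ d ∈ D, centralizer ({d} : Set G) = closure (link D d)) :
    ∃ (F : Type) (_ : Field F) (_ : Fintype F) (hF : Fintype.card F = 2 ^ 2),
      ∀ d ∈ D, ∃ X : Ctx hF G, X.d = d := by
  obtain ⟨a, ha, -, -, F, i1, i2, hF, ⟨e⟩⟩ := CfsgLib.FischerUnique.exists_data_of_typeM22 S h
  refine ⟨F, i1, i2, hF.trans (by norm_num), fun d hd => ?_⟩
  obtain ⟨hdH, hq, hZ⟩ := CfsgLib.FischerUnique.link_group_of_typeM22 S h hd
  obtain ⟨g, hg⟩ := CfsgLib.ThreeTransp.class_conj S.cls hd ha
  have himg : (MulAut.conj g).toMonoidHom '' link D d = link D a := by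
    rw [← hg, ← CfsgLib.ThreeTrans.link_conj S.cls]; rfl
  have hmap : (closure (link D d)).map (MulAut.conj g).toMonoidHom = closure (link D a) := by
    rw [MonoidHom.map_closure, himg]
  let c : ↥(centralizer ({d} : Set G)) ≃* ↥(closure (link D d)) := MulEquiv.subgroupCongr (hcent d hd)
  let m : ↥(closure (link D d)) ≃* ↥(closure (link D a)) :=
    ((closure (link D d)).equivMapOfInjective (MulAut.conj g).toMonoidHom
      (MulAut.conj g).injective).trans (MulEquiv.subgroupCongr hmap)
  have hset := S.cls.1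
  have hd2 := CfsgLib.ThreeTrans.mul_self hset hd
  have hd1 := CfsgLib.ThreeTrans.ne_one hset hd
  let θ : ↥(centralizer ({d} : Set G)) →* Cfsg.PSU 6 F 2 :=
    e.toMonoidHom.comp ((QuotientGroup.mk' _).comp (m.toMonoidHom.comp c.toMonoidHom))
  let z : ↥(centralizer ({d} : Set G)) := ⟨d, mem_centralizer_singleton_iff.2 rfl⟩
  have hker : ∀ x, θ x = 1 ↔ x = 1 ∨ x = z := by
    intro x
    have hm : ∀ y, m y ∈ center ↥(closure (link D a)) ↔ y ∈ center ↥(closure (link D d)) := by
      intro y
      simp only [mem_center_iff]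
      exact ⟨fun h w => m.injective (by rw [map_mul, map_mul]; exact h (m w)),
        fun h w => by obtain ⟨w, rfl⟩ := m.surjective w; rw [← map_mul, ← map_mul, h w]⟩
    show e (QuotientGroup.mk (m (c x))) = 1 ↔ _
    rw [e.map_eq_one_iff, QuotientGroup.eq_one_iff, hm, hZ, mem_subgroupOf]
    show (x : G) ∈ zpowers d ↔ _
    constructor
    · intro hx
      obtain ⟨j, hj⟩ := mem_zpowers_iff.1 hx
      rcases Int.even_or_odd j with ⟨i, rfl⟩ | ⟨i, rfl⟩
      · exact Or.inl (Subtype.ext (by rw [← hj, zpow_add, ← (Commute.refl d).mul_zpow, hd2, one_zpow]; rfl))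
      · exact Or.inr (Subtype.ext (by
          rw [← hj, zpow_add, zpow_one, two_mul, zpow_add, ← (Commute.refl d).mul_zpow, hd2, one_zpow,
            one_mul]))
    · rintro (rfl | rfl)
      · exact one_mem _
      · exact mem_zpowers d
  have hsurj : Function.Surjective θ :=
    e.surjective.comp ((QuotientGroup.mk'_surjective _).comp (m.surjective.comp c.surjective))
  have hperf : Group.IsPerfect ↥(centralizer ({d} : Set G)) := by
    rw [hcent d hd]; exact hq.1
  obtain ⟨u, hu, -⟩ := pair_of_nontrivial (D := D) (d := d) hq.2.toNontrivial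
  obtain ⟨k, hk⟩ := CfsgLib.ThreeTransp.class_conj S.cls hd hu.1
  exact ⟨⟨d,
    { θ := θ
      z := z
      surj := hsurj
      z_sq := Subtype.ext hd2
      z_ne := fun h => hd1 (congrArg Subtype.val h)
      ker := hker
      central := fun x => Subtype.ext (mem_centralizer_singleton_iff.1 x.2).symm },
    rfl, hperf, ⟨k, by rw [hk]; exact mem_centralizer_singleton_iff.2 hu.2.2.eq.symm, by
      rw [hk]; exact hu.2.1⟩⟩, rfl⟩

/-- In type M(22) the members in a Sylow 2-subgroup generate its Thompson subgroup. -/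
theorem closure_eq_thompson_of_typeM22 (S : Setting D) (h : Cfsg.IsOfTypeM22 G D)
    (hcent : ∀ d ∈ D, centralizer ({d} : Set G) = closure (link D d)) (h4 : ¬ 4 ∣ D.ncard) (T : Sylow 2 G) :
    closure {x : G | x ∈ D ∧ x ∈ (T : Subgroup G)} = Cfsg.thompsonSubgroupOf 2 (T : Subgroup G) := by
  obtain ⟨F, i1, i2, hF, hctx⟩ := exists_ctx_of_typeM22 S h hcent
  obtain ⟨-, a, ha, -⟩ := h
  refine closure_eq_thompson S.cls hctx h4 (fun x hx y hy u hu v hv h1 h2 h3 h4 h5 => ?_) ⟨a, ha⟩ T
  rcases S.pair_unique hx hy hu hv h1 h2 h3 h4 h5 with ⟨p, q⟩ | ⟨p, q⟩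
  · exact Or.inl ⟨p.symm, q.symm⟩
  · exact Or.inr ⟨q.symm, p.symm⟩

end CfsgLib.FischerThompson
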