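import Cfsg.Agent.Lib.FischerThompson.PairCent
import Cfsg.Agent.Lib.FischerThompson.TypeM22
import Cfsg.Agent.Lib.FischerCent.Levels

/-!
Any two distinct commuting members of a class of type M(22) form a configuration.
-/

set_option autoImplicit false
set_option linter.unusedSectionVars false

namespace CfsgLib.FischerThompson

open Subgroup CfsgLib.Classical.Herm HermSpace CfsgLib.UnitaryTransv CfsgLib.U6Cover
open CfsgLib.FischerType

variable {G : Type*} [Group G] [Finite G] {D : Set G}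

/-- A product of two commuting members is not a member. -/
theorem prod_not_mem_of_setting (S : Setting D) {a b : G} (ha : a ∈ D) (hb : b ∈ D) (hab : Commute a b) :
    a * b ∉ D := by
  intro hmem
  have hset := S.cls.1
  have ha2 := CfsgLib.ThreeTrans.mul_self hset ha
  have hb2 := CfsgLib.ThreeTrans.mul_self hset hb
  have key : ∀ a ∈ D, ∀ b ∈ D, Commute a b → a * b ∈ D → ∀ x ∈ D, Commute x b → Commute x a := by
    intro a ha b hb hab hmem x hx hxb
    have ha2 := CfsgLib.ThreeTrans.mul_self hset ha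
    have hx2 := CfsgLib.ThreeTrans.mul_self hset hx
    have hb2 := CfsgLib.ThreeTrans.mul_self hset hb
    have hcomm : Commute (x * a) b := hxb.mul_left hab
    have hof : (x * a) ^ 2 = 1 → Commute x a := fun h => by
      rw [pow_two] at h
      have h1 := eq_inv_of_mul_eq_one_left h
      rw [mul_inv_rev, CfsgLib.ThreeTrans.inv_eq hset ha, CfsgLib.ThreeTrans.inv_eq hset hx] at h1
      exact h1
    rcases hset.2 x hx (a * b) hmem with h | h <;> rw [← mul_assoc, hcomm.mul_pow] at h
    · rw [pow_two b, hb2, mul_one] at h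
      exact hof h
    · rcases hset.2 x hx a ha with h' | h'
      · exact hof h'
      · rw [h', one_mul, pow_succ, pow_two, hb2, one_mul] at h
        exact absurd h (CfsgLib.ThreeTrans.ne_one hset hb)
  have hne : a = b := S.eq_of_sameComm a ha b hb fun x hx =>
    ⟨fun h => (key a ha b hb hab hmem x hx h.symm).symm,
      fun h => (key b hb a ha hab.symm (by rwa [← hab.eq]) x hx h.symm).symm⟩
  subst hne
  rw [ha2] at hmem
  exact CfsgLib.ThreeTrans.ne_one hset hmem rfl

/-- The configuration of a commuting pair. -/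
theorem exists_cfg (S : Setting D) (h : Cfsg.IsOfTypeM22 G D) {d₁ d₂ : G} (h₁ : d₁ ∈ D) (h₂ : d₂ ∈ D)
    (hne : d₁ ≠ d₂) (hc : Commute d₁ d₂) :
    ∃ (F : Type) (_ : Field F) (_ : Fintype F) (hF : Fintype.card F = 2 ^ 2) (X : Ctx hF G)
      (P : Cfg hF D X d₂), X.d = d₁ ∧ P.Amb := by
  obtain ⟨F, i1, i2, hF, hctx⟩ :=
    exists_ctx_of_typeM22 S h fun d hd => CfsgLib.FischerCent.centralizer_eq_of_typeM22 S h hd
  obtain ⟨X, hX⟩ := hctx d₁ h₁
  subst hX
  have B : Base hF D X := ⟨S.cls, h₁, fun a ha b hb hab => prod_not_mem_of_setting S ha hb hab⟩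
  let u : ↥(centralizer ({X.d} : Set G)) := ⟨d₂, mem_centralizer_singleton_iff.2 hc.symm.eq⟩
  obtain ⟨v, hv, hv0', hL⟩ := B.exists_tv (c := u) h₂ hne.symm
  obtain ⟨k, hk, hkv⟩ := rootGen_transitive (big_std hF (n := 6) (by norm_num)) hv hv0' (hv0 hF) v0_ne_zero
  obtain ⟨g, hg⟩ := X.D.exists_lift (MonoidHom.mem_ker.1 (rootGen_le_ker_det hk))
  have hLg : X.D.L (g * u * g⁻¹) (tv hF v0 (hv0 hF)) := by
    have h1 := hg.conj hL
    rw [tv_conj] at h1
    rwa [tv_congr hF _ (hv0 hF) hkv] at h1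
  let D' : Data hF ↥(centralizer ({X.d} : Set G)) :=
    { θ := X.D.θ.comp (MulAut.conj g).toMonoidHom
      z := X.D.z
      surj := X.D.surj.comp (MulAut.conj g).surjective
      z_sq := X.D.z_sq
      z_ne := X.D.z_ne
      ker := fun c => by
        show X.D.θ (g * c * g⁻¹) = 1 ↔ _
        rw [X.D.ker]
        constructor <;> rintro (e | e)
        · exact Or.inl (conj_eq_one_iff.1 e)
        · refine Or.inr ?_
          calc c = g⁻¹ * (g * c * g⁻¹) * g := by group
            _ = g⁻¹ * (X.D.z * g) := by rw [e, mul_assoc]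
            _ = X.D.z := by rw [X.D.central g, inv_mul_cancel_left]
        · exact Or.inl (by rw [e]; group)
        · exact Or.inr (by rw [e, ← X.D.central g, mul_inv_cancel_right])
      central := X.D.central }
  let X' : Ctx hF G := ⟨X.d, D', X.hz, X.perfect, X.nwc⟩
  have B' : Base hF D X' := ⟨S.cls, h₁, B.prod_not_mem⟩
  refine ⟨F, i1, i2, hF, X', ⟨B', h₂, hne.symm, u.2, hLg⟩, rfl, hctx, ?_, ?_⟩
  · intro a ha b hb hab hcab heq
    rcases S.pair_unique h₁ h₂ ha hb hne hab hc hcab heq.symm with ⟨p, q⟩ | ⟨p, q⟩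
    · exact Or.inl ⟨p.symm, q.symm⟩
    · exact Or.inr ⟨q.symm, p.symm⟩
  · exact S.exists_conj_pair h₁ ⟨h₂, hne.symm, hc⟩ h₂ ⟨h₁, hne, hc.symm⟩

end CfsgLib.FischerThompson
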