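import Cfsg.Agent.Lib.FischerThompson.AutCent
import Cfsg.Agent.Lib.FischerThompson.PairTop
import Cfsg.Agent.Lib.FischerType.Unique

/-!
In type M(22) the outer automorphism group has order at most two.
-/

set_option autoImplicit false
set_option linter.unusedSectionVars false
set_option linter.style.haveILetI false

namespace CfsgLib.FischerThompson

open Subgroup CfsgLib.U6Cover
open CfsgLib.ThreeTrans (link)
open CfsgLib.FischerType

variable {G : Type*} [Group G] [Finite G] {D : Set G}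

/-- The image of a generating class of 3-transpositions is one. -/
theorem class_image (hc : Cfsg.IsThreeTranspositionClass D) (σ : MulAut G) :
    Cfsg.IsThreeTranspositionClass (σ '' D) := by
  obtain ⟨⟨ho, h3⟩, ⟨d, hd, hD⟩, hgen⟩ := hc
  refine ⟨⟨?_, ?_⟩, ⟨σ d, ⟨d, hd, rfl⟩, ?_⟩, ?_⟩
  · rintro _ ⟨a, ha, rfl⟩
    rw [MulEquiv.orderOf_eq]; exact ho a ha
  · rintro _ ⟨a, ha, rfl⟩ _ ⟨b, hb, rfl⟩
    rcases h3 a ha b hb with h | h
    · exact Or.inl (by rw [← map_mul, ← map_pow, h, map_one])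
    · exact Or.inr (by rw [← map_mul, ← map_pow, h, map_one])
  · ext x
    rw [conjugatesOf, Set.mem_ofPred_eq, isConj_iff]
    constructor
    · rintro ⟨a, ha, rfl⟩
      rw [hD, conjugatesOf, Set.mem_ofPred_eq, isConj_iff] at ha
      obtain ⟨g, rfl⟩ := ha
      exact ⟨σ g, by rw [map_mul, map_mul, map_inv]⟩
    · rintro ⟨g, rfl⟩
      obtain ⟨g, rfl⟩ := σ.surjective g
      refine ⟨g * d * g⁻¹, ?_, by rw [map_mul, map_mul, map_inv]⟩
      rw [hD, conjugatesOf, Set.mem_ofPred_eq, isConj_iff]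
      exact ⟨g, rfl⟩
  · rw [show (σ : G → G) '' D = σ.toMonoidHom '' D from rfl, ← MonoidHom.map_closure, hgen]
    exact map_top_of_surjective _ σ.surjective

/-- Every automorphism preserves the class. -/
theorem pres_of_typeM22 (S : Setting D) (h : Cfsg.IsOfTypeM22 G D) (σ : MulAut G) :
    ∀ x ∈ D, σ x ∈ D := fun x hx =>
  S.eq_class (S.good_of_typeM22 h) (class_image S.cls σ) ▸ ⟨x, hx, rfl⟩

/-- An automorphism fixing a member and its link is inner. -/
theorem inner_of_fix_link (S : Setting D) (h : Cfsg.IsOfTypeM22 G D) {d : G} (hd : d ∈ D) (τ : MulAut G)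
    (hfix : τ d = d) (hlink : ∀ t ∈ link D d, τ t = t) : ∃ g, τ = MulAut.conj g := by
  obtain ⟨d', hd', ⟨u, hu, -⟩, -⟩ := CfsgLib.FischerUnique.exists_data_of_typeM22 S h
  obtain ⟨g, rfl⟩ := CfsgLib.ThreeTransp.class_conj S.cls hd' hd
  rcases CfsgLib.FischerCent.aut_eq_of_fix_link S (S.good_of_typeM22 h).lines hd
      (CfsgLib.FischerType.link_conj_mem S.cls g hu) τ (pres_of_typeM22 S h τ) hfix hlink with e | e
  · exact ⟨1, by rw [e, map_one]⟩
  · exact ⟨g * d' * g⁻¹, e⟩

/-- The product of two outer automorphisms is inner. -/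
theorem index_of_typeM22 (S : Setting D) (h : Cfsg.IsOfTypeM22 G D) (σ τ : MulAut G)
    (hσ : σ ∉ (MulAut.conj : G →* MulAut G).range) (hτ : τ ∉ (MulAut.conj : G →* MulAut G).range) :
    σ * τ ∈ (MulAut.conj : G →* MulAut G).range := by
  classical
  set R := (MulAut.conj : G →* MulAut G).range
  haveI hR : R.Normal := ⟨fun n hn s => by
    obtain ⟨g, rfl⟩ := hn
    exact ⟨s g, MulEquiv.ext fun x => by simp [MulAut.mul_apply]⟩⟩
  obtain ⟨d, hd, -⟩ := CfsgLib.FischerUnique.exists_data_of_typeM22 S h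
  obtain ⟨F, i1, i2, hF, hctx⟩ :=
    exists_ctx_of_typeM22 S h fun e he => CfsgLib.FischerCent.centralizer_eq_of_typeM22 S h he
  obtain ⟨X, rfl⟩ := hctx d hd
  haveI : Finite (Cfsg.PSU 6 F 2) := Finite.of_surjective _ X.D.surj
  let C := centralizer ({X.d} : Set G)
  let A : Subgroup (MulAut G) :=
    { carrier := {s | s X.d = X.d}
      one_mem' := rfl
      mul_mem' := fun {a b} ha hb => by
        show a (b X.d) = X.d
        rw [show b X.d = X.d from hb, show a X.d = X.d from ha]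
      inv_mem' := fun {a} ha => a.injective ((MulAut.apply_inv_self G a _).trans (show X.d = a X.d from ha.symm)) }
  have hmemC : ∀ s : A, ∀ c ∈ C, (s : MulAut G) c ∈ C := by
    intro s c hc
    refine mem_centralizer_singleton_iff.2 ?_
    have h1 := (show Commute c X.d from mem_centralizer_singleton_iff.1 hc).map (s : MulAut G)
    rw [show (s : MulAut G) X.d = X.d from s.2] at h1
    exact h1.eq
  let res : A → MulAut C := fun s =>
    { toFun := fun c => ⟨(s : MulAut G) c, hmemC s c c.2⟩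
      invFun := fun c => ⟨(s : MulAut G)⁻¹ c, hmemC s⁻¹ c c.2⟩
      left_inv := fun _ => Subtype.ext (MulAut.inv_apply_self G _ _)
      right_inv := fun _ => Subtype.ext (MulAut.apply_inv_self G _ _)
      map_mul' := fun _ _ => Subtype.ext (map_mul _ _ _) }
  have hker : ∀ s : A, X.D.θ.ker.map (res s).toMonoidHom = X.D.θ.ker := by
    have hfix : ∀ (s : A) (c : C), c = 1 ∨ c = X.D.z → res s c = 1 ∨ res s c = X.D.z := by
      rintro s c (rfl | rfl)
      · exact Or.inl (map_one _)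
      · refine Or.inr (Subtype.ext ?_)
        show (s : MulAut G) (X.D.z : G) = X.D.z
        rw [X.hz]; exact s.2
    intro s
    ext c
    constructor
    · rintro ⟨a, ha, rfl⟩
      exact (X.D.ker _).2 (hfix s a ((X.D.ker a).1 ha))
    · intro hc
      refine ⟨(res s).symm c, ?_, (res s).apply_symm_apply c⟩
      exact (X.D.ker _).2 (hfix s⁻¹ c ((X.D.ker c).1 hc))
  let φ : A →* MulAut (C ⧸ X.D.θ.ker) :=
    MonoidHom.mk' (fun s => QuotientGroup.congr _ _ (res s) (hker s)) fun a b => MulEquiv.ext fun q => by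
      obtain ⟨c, rfl⟩ := QuotientGroup.mk_surjective q
      rfl
  have hφ : ∀ s ∈ φ.ker, (s : MulAut G) ∈ R := by
    intro s hs
    obtain ⟨g, hg⟩ := inner_of_fix_link S h hd (s : MulAut G) s.2 fun t ht => by
      have htC : t ∈ C := mem_centralizer_singleton_iff.2 ht.2.2.symm.eq
      have h1 : (QuotientGroup.mk (res s ⟨t, htC⟩) : C ⧸ X.D.θ.ker) = QuotientGroup.mk ⟨t, htC⟩ :=
        DFunLike.congr_fun (show φ s = 1 from hs) (QuotientGroup.mk (⟨t, htC⟩ : C))
      rw [QuotientGroup.eq_iff_div_mem, MonoidHom.mem_ker, X.D.ker, div_eq_mul_inv] at h1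
      rcases h1 with e | e
      · exact mul_inv_eq_one.1 (congrArg Subtype.val e)
      · exfalso
        have e' : (s : MulAut G) t * t⁻¹ = X.d := (congrArg Subtype.val e).trans X.hz
        rw [mul_inv_eq_iff_eq_mul] at e'
        exact prod_not_mem_of_setting S hd ht.1 ht.2.2 (e' ▸ pres_of_typeM22 S h (s : MulAut G) t ht.1)
    exact ⟨g, hg.symm⟩
  have hfacts : Nat.card (C ⧸ X.D.θ.ker) = Nat.card (Cfsg.PSU 6 F 2) ∧ Nat.card X.D.θ.ker = 2 := by
    refine ⟨Nat.card_congr (QuotientGroup.quotientKerEquivOfSurjective X.D.θ X.D.surj).toEquiv, ?_⟩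
    have hset : (X.D.θ.ker : Set C) = {1, X.D.z} := Set.ext fun c => by
      rw [SetLike.mem_coe, MonoidHom.mem_ker, X.D.ker, Set.mem_insert_iff, Set.mem_singleton_iff]
    rw [← SetLike.coe_sort_coe, Nat.card_coe_set_eq, hset, Set.ncard_pair X.D.z_ne.symm]
  -- the outer group
  let π : A →* MulAut G ⧸ R := (QuotientGroup.mk' R).comp A.subtype
  have hπ : Function.Surjective π := by
    intro q
    obtain ⟨s, rfl⟩ := QuotientGroup.mk_surjective q
    obtain ⟨g, hg⟩ := CfsgLib.ThreeTransp.class_conj S.cls (pres_of_typeM22 S h s _ hd) hd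
    refine ⟨⟨MulAut.conj g * s, hg⟩, ?_⟩
    show ((MulAut.conj g * s : MulAut G) : MulAut G ⧸ R) = (s : MulAut G ⧸ R)
    rw [QuotientGroup.mk_mul, (QuotientGroup.eq_one_iff _).2 (show MulAut.conj g ∈ R from ⟨g, rfl⟩), one_mul]
  have hcardπ := (card_eq_card_quotient_mul_card_subgroup π.ker).trans (by
    rw [Nat.card_congr (QuotientGroup.quotientKerEquivOfSurjective π hπ).toEquiv])
  let ι : C →* π.ker := MonoidHom.mk' (fun c => ⟨⟨MulAut.conj (c : G),
      mul_inv_eq_iff_eq_mul.2 (mem_centralizer_singleton_iff.1 c.2)⟩,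
      (QuotientGroup.eq_one_iff _).2 ⟨c, rfl⟩⟩) fun a b => Subtype.ext (Subtype.ext (map_mul MulAut.conj (a : G) b))
  have hconj : ∀ {a b : G}, MulAut.conj a = MulAut.conj b → a = b := by
    intro a b e
    have h1 : b⁻¹ * a ∈ center G := mem_center_iff.2 fun x => by
      have h2 : a * x * a⁻¹ = b * x * b⁻¹ := by simpa using DFunLike.congr_fun e x
      calc x * (b⁻¹ * a) = b⁻¹ * (b * x * b⁻¹) * a := by group
        _ = b⁻¹ * (a * x * a⁻¹) * a := by rw [h2]
        _ = b⁻¹ * a * x := by group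
    rw [S.center_bot, mem_bot] at h1
    exact (inv_mul_eq_one.1 h1).symm
  have hι : Function.Bijective ι := by
    refine ⟨fun a b e => Subtype.ext (hconj (congrArg (fun q : π.ker => ((q : A) : MulAut G)) e)), ?_⟩
    rintro ⟨⟨s, hs⟩, hker'⟩
    obtain ⟨g, hg⟩ := (QuotientGroup.eq_one_iff s).1 hker'
    refine ⟨⟨g, mem_centralizer_singleton_iff.2 (mul_inv_eq_iff_eq_mul.1 ?_)⟩, Subtype.ext (Subtype.ext hg)⟩
    rw [← MulAut.conj_apply, hg]; exact hs
  have hC : Nat.card C = 2 * Nat.card (Cfsg.PSU 6 F 2) := by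
    rw [card_eq_card_quotient_mul_card_subgroup X.D.θ.ker, hfacts.1, hfacts.2, mul_comm]
  have hA := card_eq_card_quotient_mul_card_subgroup φ.ker
  -- the kernel of the action has order at most two
  have hkφ : Nat.card φ.ker ∣ 2 := by
    let f : φ.ker →* X.D.θ.ker.map C.subtype := MonoidHom.mk'
      (fun s => ⟨(hφ s s.2).choose, by
        have hg := (hφ s s.2).choose_spec
        have hgC : (hφ s s.2).choose ∈ C := mem_centralizer_singleton_iff.2 (mul_inv_eq_iff_eq_mul.1 (by
          rw [← MulAut.conj_apply, hg]; exact (s : A).2))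
        refine ⟨⟨_, hgC⟩, ?_, rfl⟩
        rw [SetLike.mem_coe, MonoidHom.mem_ker]
        have hcentral : ∀ c : C, X.D.θ ⟨_, hgC⟩ * X.D.θ c = X.D.θ c * X.D.θ ⟨_, hgC⟩ := by
          intro c
          have h1 : (QuotientGroup.mk (res s c) : C ⧸ X.D.θ.ker) = QuotientGroup.mk c :=
            DFunLike.congr_fun (show φ s = 1 from s.2) (QuotientGroup.mk c)
          have h2 := congrArg (QuotientGroup.kerLift X.D.θ) h1
          rw [QuotientGroup.kerLift_mk, QuotientGroup.kerLift_mk,
            show res s c = ⟨_, hgC⟩ * c * ⟨_, hgC⟩⁻¹ from Subtype.ext (DFunLike.congr_fun hg (c : G)).symm,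
            map_mul, map_mul, map_inv, mul_inv_eq_iff_eq_mul] at h2
          exact h2
        haveI := CfsgLib.Classical.Herm.isSimpleGroup_psu (F := F) (q := 2) (n := 6) hF (by norm_num) (by norm_num)
        have hz : X.D.θ ⟨_, hgC⟩ ∈ center (Cfsg.PSU 6 F 2) := mem_center_iff.2 fun q => by
          obtain ⟨c, rfl⟩ := X.D.surj q
          exact (hcentral c).symm
        rcases (inferInstance : (center (Cfsg.PSU 6 F 2)).Normal).eq_bot_or_eq_top with e | e
        · rwa [e, mem_bot] at hz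
        · exfalso
          haveI := X.perfect
          obtain ⟨a, ha⟩ := exists_ne (1 : Cfsg.PSU 6 F 2)
          obtain ⟨c, rfl⟩ := X.D.surj a
          have hc : c ∈ commutator C := Group.IsPerfect.commutator_eq_top (G := C) ▸ mem_top c
          have hle : commutator C ≤ X.D.θ.ker := by
            rw [_root_.commutator_def, commutator_le]
            intro p _ q _
            rw [MonoidHom.mem_ker, map_commutatorElement, commutatorElement_eq_one_iff_mul_comm]
            exact mem_center_iff.1 (e ▸ mem_top (X.D.θ q)) _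
          exact ha (hle hc)⟩)
      fun a b => Subtype.ext (hconj (by
        show MulAut.conj (hφ _ (a * b).2).choose = MulAut.conj ((hφ _ a.2).choose * (hφ _ b.2).choose)
        rw [(hφ _ (a * b).2).choose_spec, map_mul, (hφ _ a.2).choose_spec, (hφ _ b.2).choose_spec]
        rfl))
    have hf : Function.Injective f := fun a b e => by
      have h1 : (hφ _ a.2).choose = (hφ _ b.2).choose := congrArg Subtype.val e
      have h2 := congrArg (MulAut.conj : G →* MulAut G) h1
      rw [(hφ _ a.2).choose_spec, (hφ _ b.2).choose_spec] at h2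
      exact Subtype.ext (Subtype.ext h2)
    have h1 := card_dvd_of_injective f hf
    rwa [card_map_of_injective C.subtype_injective, hfacts.2] at h1
  haveI : Fact (Nat.Prime 2) := ⟨Nat.prime_two⟩
  have hMA : Nat.card (MulAut (C ⧸ X.D.θ.ker)) = 6 * Nat.card (Cfsg.PSU 6 F 2) := by
    rw [Nat.card_congr (MulAut.congr (QuotientGroup.quotientKerEquivOfSurjective X.D.θ X.D.surj)).toEquiv,
      CfsgLib.AutPSU.card_aut (F := F) (n := 6) (q := 2) 2 1 (by norm_num) hF (by norm_num) (by norm_num)]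
    norm_num
  have hdvdA : Nat.card A ∣ 6 * Nat.card (Cfsg.PSU 6 F 2) * 2 := by
    rw [hA]
    refine Nat.mul_dvd_mul ?_ hkφ
    rw [← hMA, Nat.card_congr (QuotientGroup.quotientKerEquivRange φ).toEquiv]
    exact card_subgroup_dvd_card _
  rw [hcardπ, ← Nat.card_congr (Equiv.ofBijective ι hι), hC] at hdvdA
  have hn6 : Nat.card (MulAut G ⧸ R) ∣ 6 := by
    have hpos : 0 < Nat.card (Cfsg.PSU 6 F 2) * 2 := by
      have : 0 < Nat.card (Cfsg.PSU 6 F 2) := Nat.card_pos
      omega
    refine Nat.dvd_of_mul_dvd_mul_right hpos ?_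
    have e1 : Nat.card (MulAut G ⧸ R) * (2 * Nat.card (Cfsg.PSU 6 F 2)) =
        Nat.card (MulAut G ⧸ R) * (Nat.card (Cfsg.PSU 6 F 2) * 2) := by ring
    have e2 : 6 * Nat.card (Cfsg.PSU 6 F 2) * 2 = 6 * (Nat.card (Cfsg.PSU 6 F 2) * 2) := by ring
    rwa [e1, e2] at hdvdA
  have hn3 : ¬ 3 ∣ Nat.card (MulAut G ⧸ R) := by
    intro h3
    haveI : Fact (Nat.Prime 3) := ⟨Nat.prime_three⟩
    obtain ⟨q, hq⟩ := exists_prime_orderOf_dvd_card' 3 h3
    obtain ⟨s, rfl⟩ := QuotientGroup.mk_surjective q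
    have hs3 : s ^ 3 ∈ R := (QuotientGroup.eq_one_iff _).1 (by rw [QuotientGroup.mk_pow, ← hq, pow_orderOf_eq_one])
    obtain ⟨v, hv⟩ := hs3
    obtain ⟨g, hg⟩ := CfsgLib.FischerCent.outThree_of_typeM22 S h s (pres_of_typeM22 S h s) ⟨v, hv.symm⟩
    rw [(QuotientGroup.eq_one_iff s).2 (show s ∈ R from ⟨g, hg.symm⟩), orderOf_one] at hq
    norm_num at hq
  have hle : Nat.card (MulAut G ⧸ R) ≤ 2 := by
    have hle6 := Nat.le_of_dvd (by norm_num) hn6
    interval_cases hn : Nat.card (MulAut G ⧸ R) <;> omega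
  by_contra hcon
  have h2 : ((σ * τ : MulAut G) : MulAut G ⧸ R) ≠ 1 := fun e => hcon ((QuotientGroup.eq_one_iff _).1 e)
  have hσ' : (σ : MulAut G ⧸ R) ≠ 1 := fun e => hσ ((QuotientGroup.eq_one_iff _).1 e)
  have hτ' : (τ : MulAut G ⧸ R) ≠ 1 := fun e => hτ ((QuotientGroup.eq_one_iff _).1 e)
  have h3 : ((σ * τ : MulAut G) : MulAut G ⧸ R) ≠ (σ : MulAut G ⧸ R) := by
    rw [QuotientGroup.mk_mul]; exact fun e => hτ' (mul_eq_left.1 e)
  have h4 : Function.Injective ![(1 : MulAut G ⧸ R), (σ : MulAut G ⧸ R), ((σ * τ : MulAut G) : MulAut G ⧸ R)] := by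
    intro i j e
    fin_cases i <;> fin_cases j <;> simp at e <;>
      first
        | rfl
        | exact absurd e hσ' | exact absurd e.symm hσ' | exact absurd e h2 | exact absurd e.symm h2
        | exact absurd e h3 | exact absurd e.symm h3
        | exact absurd (show (σ : MulAut G) ∈ R by simpa using e) hσ
        | exact absurd (show (τ : MulAut G) ∈ R by simpa using e) hτ
  have h5 := Nat.card_le_card_of_injective _ h4
  rw [Nat.card_fin] at h5
  omega

/-- The hypotheses on the automorphism group of type M(22), given an outer automorphism. -/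
theorem exists_autHyp (S : Setting D) (h : Cfsg.IsOfTypeM22 G D)
    (hout : ∃ σ : MulAut G, σ ∉ (MulAut.conj : G →* MulAut G).range) {d₁ d₂ : G} (h₁ : d₁ ∈ D) (h₂ : d₂ ∈ D)
    (hne : d₁ ≠ d₂) (hc : Commute d₁ d₂) :
    ∃ (F : Type) (_ : Field F) (_ : Fintype F) (hF : Fintype.card F = 2 ^ 2) (X : Ctx hF G)
      (P : Cfg hF D X d₂), X.d = d₁ ∧ P.AutHyp := by
  obtain ⟨F, i1, i2, hF, X, P, rfl, A⟩ := exists_cfg S h h₁ h₂ hne hc
  exact ⟨F, i1, i2, hF, X, P, rfl, A, S.center_bot, pres_of_typeM22 S h, inner_of_fix_link S h h₁,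
    fun a ha b hb hab hcab => S.exists_conj_pair ha ⟨hb, hab.symm, hcab⟩ h₁ ⟨h₂, hne.symm, hc⟩, hout,
    index_of_typeM22 S h⟩

/-- The conclusion on the centraliser of the product in the automorphism group. -/
theorem autCent_of_typeM22 (S : Setting D) (h : Cfsg.IsOfTypeM22 G D)
    (hout : ∃ σ : MulAut G, σ ∉ (MulAut.conj : G →* MulAut G).range) (d₁ d₂ : G) (h₁ : d₁ ∈ D) (h₂ : d₂ ∈ D)
    (hne : d₁ ≠ d₂) (hc : Commute d₁ d₂) (j : MulAut G) (hj : j = MulAut.conj (d₁ * d₂))
    (Q : Subgroup (MulAut G))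
    (hQ : Q = (Cfsg.generalizedFittingSubgroup ↥(centralizer ({j} : Set (MulAut G)))).map
      (centralizer ({j} : Set (MulAut G))).subtype) :
    Cfsg.IsLargeExtraspecial Q ∧ Nat.card Q = 2 ^ 11 ∧ Q ≤ centralizer ({j} : Set (MulAut G)) ∧
      ∃ (_ : (Q.subgroupOf (centralizer ({j} : Set (MulAut G)))).Normal) (F : Type) (_ : Field F) (_ : Fintype F),
        Fintype.card F = 4 ∧ Nonempty (↥(centralizer ({j} : Set (MulAut G))) ⧸
          Q.subgroupOf (centralizer ({j} : Set (MulAut G))) ≃* MulAut (Cfsg.PSU 4 F 2)) := by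
  obtain ⟨F, i1, i2, hF, X, P, rfl, H⟩ := exists_autHyp S h hout h₁ h₂ hne hc
  subst hj
  have hgf := H.genFitting_B
  have hQ' : Q = H.act.ker.map P.B.subtype := by rw [hQ, ← hgf]; rfl
  subst hQ'
  have hback : (H.act.ker.map P.B.subtype).subgroupOf P.B = H.act.ker :=
    comap_map_eq_self_of_injective P.B.subtype_injective _
  refine ⟨H.large, by rw [card_map_of_injective P.B.subtype_injective, H.card_ker], map_subtype_le _, ?_⟩
  have hn : ((H.act.ker.map P.B.subtype).subgroupOf P.B).Normal := by rw [hback]; infer_instance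
  obtain ⟨e⟩ := H.quotient_iso
  refine ⟨hn, F, i1, i2, hF.trans (by norm_num), ?_⟩
  haveI := hn
  exact ⟨(QuotientGroup.quotientMulEquivOfEq hback).trans e⟩

end CfsgLib.FischerThompson
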