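import Cfsg.Agent.Lib.FischerThompson.PairCent
import Mathlib.GroupTheory.FixedPointFree

/-!
The subgroup of order `2 ^ 10` normalises no nontrivial subgroup of odd order.
-/

set_option autoImplicit false
set_option linter.unusedSectionVars false
set_option linter.style.haveILetI false

namespace CfsgLib.FischerThompson

open Subgroup Module CfsgLib.Classical.Herm HermSpace CfsgLib.UnitaryTransv CfsgLib.U6Cover

variable {F : Type*} [Field F] [Fintype F] {hF : Fintype.card F = 2 ^ 2}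
  {G : Type*} [Group G] [Finite G] {D : Set G} {X : Ctx hF G} {y : G}

local notation "𝓗" => stdHerm hF 6
local notation "𝓚" => stdHerm hF 4

omit [Finite G] in
/-- An involution without nontrivial fixed points on a subgroup inverts it. -/
theorem inverts_of_fixed_free [Finite G] (H : Subgroup G) {t : G} (ht : t * t = 1)
    (hn : ∀ h ∈ H, t * h * t⁻¹ ∈ H) (hfree : ∀ h ∈ H, t * h = h * t → h = 1) {h : G} (hh : h ∈ H) :
    t * h * t⁻¹ = h⁻¹ := by
  let φ : H →* H := MonoidHom.mk' (fun a => ⟨t * a * t⁻¹, hn a a.2⟩) fun a b => Subtype.ext (by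
    show t * ((a : G) * b) * t⁻¹ = t * a * t⁻¹ * (t * b * t⁻¹)
    group)
  have hff : MonoidHom.FixedPointFree φ := fun a ha => Subtype.ext (hfree a a.2
    (mul_inv_eq_iff_eq_mul.1 (congrArg Subtype.val ha)))
  have hinv : Function.Involutive φ := fun a => Subtype.ext (show t * (t * a * t⁻¹) * t⁻¹ = a by
    calc t * (t * a * t⁻¹) * t⁻¹ = (t * t) * a * (t * t)⁻¹ := by group
      _ = a := by rw [ht, one_mul, inv_one, mul_one])
  exact congrArg Subtype.val (congrFun (hff.coe_eq_inv_of_involutive hinv) ⟨h, hh⟩)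

variable (P : Cfg hF D X y) (A : P.Amb)

include P A

/-- An element of odd order of the centraliser normalised into the subgroup is trivial. -/
theorem Cfg.odd_C {K₀ : Subgroup G} (hodd : Odd (Nat.card K₀)) (hn : ∀ e ∈ P.E, ∀ k ∈ K₀, e * k * e⁻¹ ∈ K₀)
    {k : G} (hk : k ∈ K₀) (hkC : k ∈ P.C) : k = 1 := by
  have hone : ∀ a ∈ K₀, a ∈ P.E → a = 1 := by
    intro a ha hE
    have h1 : (⟨a, ha⟩ : K₀) ^ Nat.card K₀ = 1 := pow_card_eq_one'
    have h2 : (⟨a, hE⟩ : P.E) ^ Nat.card P.E = 1 := pow_card_eq_one'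
    have hcop : Nat.Coprime (Nat.card K₀) (Nat.card P.E) := by
      rw [P.card_E]
      exact Nat.Coprime.pow_right _ (Nat.coprime_two_right.2 hodd)
    refine orderOf_eq_one_iff.1 (Nat.eq_one_of_dvd_coprimes hcop ?_ ?_)
    · exact orderOf_dvd_of_pow_eq_one (congrArg Subtype.val h1)
    · exact orderOf_dvd_of_pow_eq_one (congrArg Subtype.val h2)
  have hcent : ∀ e ∈ P.E, k * e = e * k := by
    intro e he
    refine mul_inv_eq_iff_eq_mul.1 (eq_of_mul_inv_eq_one (hone (k * e * k⁻¹ * e⁻¹) ?_ ?_))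
    · rw [show k * e * k⁻¹ * e⁻¹ = k * (e * k⁻¹ * e⁻¹) by group]
      exact mul_mem hk (hn e he _ (inv_mem hk))
    · exact mul_mem (P.conj_mem_E' A hkC he) (inv_mem he)
  exact hone k hk (P.centralizer_E_le A hkC hcent)

/-- No nontrivial element of such a subgroup commutes with the first member. -/
theorem Cfg.odd_d {K₀ : Subgroup G} (hodd : Odd (Nat.card K₀)) (hn : ∀ e ∈ P.E, ∀ k ∈ K₀, e * k * e⁻¹ ∈ K₀)
    {g : G} (hg : g ∈ K₀) (hgd : Commute g X.d) : g = 1 := by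
  set H : Subgroup G := K₀ ⊓ centralizer ({X.d} : Set G) with hH
  have hnH : ∀ e ∈ P.E, ∀ h ∈ H, e * h * e⁻¹ ∈ H := fun e he h hh =>
    ⟨hn e he h hh.1, (centralizer ({X.d} : Set G)).mul_mem ((centralizer ({X.d} : Set G)).mul_mem (P.E_le he).1 hh.2)
      ((centralizer ({X.d} : Set G)).inv_mem (P.E_le he).1)⟩
  have hinv : ∀ h ∈ H, y * h * y⁻¹ = h⁻¹ := fun h hh =>
    inverts_of_fixed_free H P.y_sq (hnH y P.y_mem_E) (fun a ha hay => P.odd_C A hodd hn ha.1
      (mem_centralizer_singleton_iff.2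
        ((show Commute a X.d from mem_centralizer_singleton_iff.1 ha.2).mul_right
          (show Commute a y from hay.symm)).eq)) hh
  have hab : ∀ a ∈ H, ∀ b ∈ H, a * b = b * a := by
    intro a ha b hb
    have h1 := hinv _ (mul_mem ha hb)
    rw [show y * (a * b) * y⁻¹ = (y * a * y⁻¹) * (y * b * y⁻¹) by group, hinv a ha, hinv b hb] at h1
    rw [← inv_inj, mul_inv_rev, mul_inv_rev]
    simpa using h1.symm
  have hgH : g ∈ H := ⟨hg, mem_centralizer_singleton_iff.2 hgd.eq⟩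
  -- the member
  let gC : ↥(centralizer ({X.d} : Set G)) := ⟨g, hgH.2⟩
  let yC : ↥(centralizer ({X.d} : Set G)) := ⟨y, P.comm⟩
  obtain ⟨k, hk⟩ := X.D.exists_L gC
  have hc := hk.conj P.lift
  rw [tv_conj] at hc
  set v := k.1 v0 with hv
  have hv' : (𝓗).h v v = 0 := by rw [hv, unit_h]; exact hv0 hF
  rw [tv_congr hF _ hv' hv.symm] at hc
  have hcy : g * y * g⁻¹ = g * g * y := by
    calc g * y * g⁻¹ = g * (y * g⁻¹ * y⁻¹) * y := by group
      _ = g * g * y := by rw [hinv _ (inv_mem hgH), inv_inv]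
  have hcD : g * y * g⁻¹ ∈ D := (CfsgLib.ThreeTransp.class_to_group P.base.cls).2.1 g y P.mem
  by_cases hp : phi v = 0
  · have h1 : Commute yC (gC * yC * gC⁻¹) := P.base.commute_of_orth hcD P.lift hc (by rw [h_v0]; exact hp)
    have h2 : y * (g * g * y) = g * g * y * y := by rw [← hcy]; exact congrArg Subtype.val h1.eq
    have h3 := hinv _ (mul_mem hgH hgH)
    have h4 : y * (g * g) * y⁻¹ = g * g := by
      rw [mul_inv_eq_iff_eq_mul]
      refine mul_right_cancel (b := y) ?_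
      rw [← h2]; group
    rw [h4] at h3
    have h5 : g ^ 4 = 1 := by
      rw [eq_inv_iff_mul_eq_one] at h3
      rw [← h3, pow_succ, pow_succ, pow_two]; group
    have h6 : (⟨g, hg⟩ : K₀) ^ Nat.card K₀ = 1 := pow_card_eq_one'
    refine orderOf_eq_one_iff.1 (Nat.eq_one_of_dvd_coprimes ?_
      (orderOf_dvd_of_pow_eq_one (congrArg Subtype.val h6)) (orderOf_dvd_of_pow_eq_one h5))
    rw [show (4 : ℕ) = 2 ^ 2 from rfl]
    exact Nat.Coprime.pow_right _ (Nat.coprime_two_right.2 hodd)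
  exfalso
  obtain ⟨ω, hω⟩ := exists_omega hF
  set w₀ : Fin 6 → F := f0 + ω • v0 with hw₀def
  have hphiw : phi w₀ = 1 := by rw [hw₀def, phi_add, phi_smul, phi_f0, phi_v0 hF, mul_zero, add_zero]
  have hwpw : wp w₀ = 0 := by rw [hw₀def, wp_add, wp_smul, wp_f0, wp_v0, smul_zero, add_zero]
  have hh : ∀ (c : F) (u : Fin 4 → F),
      (𝓗).h (f0 + c • v0 + em u) (f0 + c • v0 + em u) = 1 + c + c ^ 2 + (𝓚).h u u := by
    intro c u
    rw [h6, wp_add, wp_add, wp_smul, wp_f0, wp_v0, wp_em, smul_zero, add_zero, zero_add]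
    simp [f0, v0, em, -stdHerm_h]
    linear_combination (c + c ^ 2 + c ^ 3) * two_eq_zero hF
  have hw₀ : (𝓗).h w₀ w₀ = 0 := by
    have h1 := hh ω 0
    rw [em_zero, add_zero, (𝓚).zero_left] at h1
    linear_combination (exp := 1) h1 + hω
  -- move the member over the standard vector
  set a := phi v with ha
  set c₁ := a⁻¹ * v 1
  set u := a⁻¹ • wp v
  have hv1 : v = a • (f0 + c₁ • v0 + em u) := by
    rw [smul_add, smul_add, smul_smul, ← em_smul, smul_smul, ← mul_assoc, mul_inv_cancel₀ hp, one_mul, one_smul]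
    conv_lhs => rw [decomp hF v]
    abel
  have hiso : (𝓗).h (f0 + c₁ • v0 + em u) (f0 + c₁ • v0 + em u) = 0 := by
    have h1 := hv'
    rw [hv1, (𝓗).smul_left, (𝓗).smul_right, stdHerm_conj, ← mul_assoc] at h1
    refine (mul_eq_zero.1 h1).resolve_left ?_
    rw [← pow_succ', CfsgLib.UnitaryTransv.pow_three hF hp]
    exact one_ne_zero
  have hq : QCond hF u (c₁ + ω) := by
    have h1 := hh c₁ u
    rw [hiso] at h1
    unfold QCond
    linear_combination -h1 + hω + (c₁ * ω - 1 - (𝓚).h u u) * two_eq_zero hF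
  obtain ⟨e, he⟩ := X.D.exists_lift (det_qel hF u _ hq)
  have heK : (e : G) ∈ P.K := P.mem_K_of_L he (qel_v0 hF u _ hq)
  have heE : (e : G) ∈ P.E := (show P.HasPar (e : G) u from ⟨heK, c₁ + ω, hq,
    congrArg Subtype.val (P.kap_eq (c := ⟨e, heK⟩) (k := ⟨_, qel_mem hF u _ hq⟩) he)⟩).mem
  have hval : (qel hF u (c₁ + ω) hq).1 w₀ = f0 + c₁ • v0 + em u := by
    rw [qel_apply, qFun, hphiw, hwpw, (𝓚).zero_left, one_mul, one_smul, add_zero, hw₀def, add_smul]
    rw [show f0 + ω • v0 + (c₁ • v0 + ω • v0) + em u = f0 + c₁ • v0 + em u + (ω • v0 + ω • v0) by abel,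
      smul_add_self_zero hF, add_zero]
  have hback : (qel hF u (c₁ + ω) hq)⁻¹.1 (f0 + c₁ • v0 + em u) = w₀ := by
    rw [← hval, inv_apply_self]
  rw [tv_smul hF hp hiso hv' hv1] at hc
  have hm := he.inv.conj hc
  rw [tv_conj, tv_congr hF _ hw₀ hback] at hm
  set m : ↥(centralizer ({X.d} : Set G)) := e⁻¹ * (gC * yC * gC⁻¹) * e⁻¹⁻¹ with hmdef
  have hmy : (m : G) * y ∈ H := by
    have h1 : (m : G) * y = (e : G)⁻¹ * (g * g) * (e : G)⁻¹⁻¹ := by
      show (e : G)⁻¹ * (g * y * g⁻¹) * (e : G)⁻¹⁻¹ * y = _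
      rw [hcy]
      calc (e : G)⁻¹ * (g * g * y) * (e : G)⁻¹⁻¹ * y = (e : G)⁻¹ * (g * g) * (y * e) * y := by group
        _ = (e : G)⁻¹ * (g * g) * ((e : G) * y) * y := by rw [(P.commute_y heK).eq]
        _ = (e : G)⁻¹ * (g * g) * (e : G)⁻¹⁻¹ * (y * y) := by group
        _ = _ := by rw [P.y_sq, mul_one]
    rw [h1]
    exact hnH _ (inv_mem heE) _ (mul_mem hgH hgH)
  -- a second one
  let u0 : Fin 4 → F := ![1, 1, 0, 0]
  have hu00 : (𝓚).h u0 u0 = 0 := by
    simp [u0, Cfsg.hermForm, Fin.sum_univ_four]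
    linear_combination two_eq_zero hF
  have hu0 : u0 ≠ 0 := fun h => by simpa [u0] using congrFun h 0
  have hq1 : QCond hF u0 0 := by unfold QCond; rw [hu00]; ring
  obtain ⟨e1, he1⟩ := X.D.exists_lift (det_qel hF u0 0 hq1)
  have he1K : (e1 : G) ∈ P.K := P.mem_K_of_L he1 (qel_v0 hF u0 0 hq1)
  have he1E : (e1 : G) ∈ P.E := (show P.HasPar (e1 : G) u0 from ⟨he1K, 0, hq1,
    congrArg Subtype.val (P.kap_eq (c := ⟨e1, he1K⟩) (k := ⟨_, qel_mem hF u0 0 hq1⟩) he1)⟩).mem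
  set b := w₀ + em u0 with hb
  have hbv : (qel hF u0 0 hq1).1 w₀ = b := by
    rw [qel_apply, qFun, hphiw, hwpw, (𝓚).zero_left, mul_zero, add_zero, zero_smul, add_zero, one_smul]
  have hb0 : (𝓗).h b b = 0 := by rw [← hbv, unit_h]; exact hw₀
  set m1 : ↥(centralizer ({X.d} : Set G)) := e1 * m * e1⁻¹ with hm1def
  have hm1 := he1.conj hm
  rw [tv_conj, tv_congr hF _ hb0 hbv] at hm1
  have hm1y : (m1 : G) * y ∈ H := by
    have h1 : (m1 : G) * y = (e1 : G) * (m * y) * (e1 : G)⁻¹ := by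
      show (e1 : G) * m * (e1 : G)⁻¹ * y = _
      calc (e1 : G) * m * (e1 : G)⁻¹ * y = (e1 : G) * m * ((e1 : G)⁻¹ * y) := by group
        _ = (e1 : G) * m * (y * (e1 : G)⁻¹) := by rw [(P.commute_y he1K).inv_left.eq]
        _ = _ := by group
    rw [h1]
    exact hnH _ he1E _ hmy
  have hcomm : (m * yC) * (m1 * yC) = (m1 * yC) * (m * yC) := Subtype.ext (hab _ hmy _ hm1y)
  have hL1 := (hm.mul P.lift).mul (hm1.mul P.lift)
  have hL2 := (hm1.mul P.lift).mul (hm.mul P.lift)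
  rw [← hcomm] at hL2
  obtain ⟨μ, -, hμ⟩ := hL2.scalar hL1
  obtain ⟨x, hx⟩ := (𝓚).exists_h_one hu0
  have h60 : ∀ r : Fin 6 → F, (𝓗).h (em x) r = (𝓚).h x (wp r) := fun r => by
    rw [h6, wp_em]; simp [em]
  have hxv : (𝓗).h (em x) v0 = 0 := by rw [h_v0, phi_em]
  have hxa : (𝓗).h (em x) w₀ = 0 := by rw [h60, hwpw]; exact (𝓚).h_comm_zero ((𝓚).zero_left _)
  have hxb : (𝓗).h (em x) b = 1 := by rw [hb, (𝓗).add_right, hxa, h60, wp_em, hx, zero_add]
  have hbv0 : (𝓗).h b v0 = 1 := by rw [hb, h_v0, phi_add, hphiw, phi_em, add_zero]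
  have hva : (𝓗).h v0 w₀ = 1 := by rw [← (𝓗).symm', h_v0, hphiw, map_one]
  have hua : (𝓗).h (em u0) w₀ = 0 := by
    rw [h6, wp_em, hwpw]; simp [em, -stdHerm_h]; exact (𝓚).h_comm_zero ((𝓚).zero_left _)
  have hba : (𝓗).h b w₀ = 0 := by rw [hb, (𝓗).add_left, hw₀, hua, zero_add]
  have e := hμ (em x)
  simp only [CfsgLib.Classical.Herm.mul_apply, tv_apply, (𝓗).add_left, hxv, hxa, hxb, hbv0, hva,
    hba, zero_smul, one_smul, add_zero, zero_add] at e
  have e2 := congrArg wp e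
  simp only [wp_add, wp_smul, wp_em, wp_v0, hwpw, hb, add_zero, zero_add] at e2
  have hxu : x + u0 ≠ 0 := fun h0 => by
    have h1 : (𝓚).h (x + u0) u0 = 1 := by rw [(𝓚).add_left, hx, hu00, add_zero]
    rw [h0, (𝓚).zero_left] at h1
    exact zero_ne_one h1
  have hμ1 : μ = 1 := smul_left_injective F hxu (by show μ • (x + u0) = (1 : F) • (x + u0); rw [one_smul, ← e2])
  rw [hμ1, one_smul] at e
  have e3 := congrArg phi e
  simp only [phi_add, phi_em, phi_v0 hF, hphiw, hb, add_zero, zero_add] at e3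
  exact one_ne_zero (show (1 : F) = 0 by linear_combination e3)

/-- The subgroup normalises no nontrivial subgroup of odd order. -/
theorem Cfg.odd_bot {K₀ : Subgroup G} (hodd : Odd (Nat.card K₀))
    (hn : ∀ e ∈ P.E, ∀ k ∈ K₀, e * k * e⁻¹ ∈ K₀) : K₀ = ⊥ := by
  obtain ⟨s, hs⟩ := A.swap
  have hy1 : ∀ k ∈ K₀, y * k = k * y → k = 1 := by
    intro k hk hky
    have hodd' : Odd (Nat.card (K₀.map (MulAut.conj s).toMonoidHom)) := by
      rwa [card_map_of_injective (MulAut.conj s).injective]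
    have hn' : ∀ e ∈ P.E, ∀ a ∈ K₀.map (MulAut.conj s).toMonoidHom,
        e * a * e⁻¹ ∈ K₀.map (MulAut.conj s).toMonoidHom := by
      rintro e he _ ⟨b, hb, rfl⟩
      refine ⟨(s⁻¹ * e * s) * b * (s⁻¹ * e * s)⁻¹, hn _ ?_ b hb, ?_⟩
      · have := hs.inv.conj_mem_E he; rwa [inv_inv] at this
      · show s * ((s⁻¹ * e * s) * b * (s⁻¹ * e * s)⁻¹) * s⁻¹ = e * (s * b * s⁻¹) * e⁻¹
        group
    have h1 := P.odd_d A hodd' hn' (g := s * k * s⁻¹) ⟨k, hk, rfl⟩ (by
      rw [← hs.2]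
      exact ((show Commute k y from hky.symm).map (MulAut.conj s).toMonoidHom))
    exact conj_eq_one_iff.1 h1
  rw [eq_bot_iff_forall]
  intro k hk
  refine P.odd_C A hodd hn hk (mem_centralizer_singleton_iff.2 ?_)
  have h1 := inverts_of_fixed_free K₀ P.d_sq (hn _ P.d_mem_E)
    (fun a ha had => P.odd_d A hodd hn ha had.symm) hk
  have h2 := inverts_of_fixed_free K₀ P.y_sq (hn _ P.y_mem_E) hy1 (inv_mem hk)
  rw [inv_inv] at h2
  have h3 : X.d * y * k * (X.d * y)⁻¹ = k := by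
    calc X.d * y * k * (X.d * y)⁻¹ = (X.d * (y * k⁻¹ * y⁻¹) * X.d⁻¹)⁻¹ := by group
      _ = k := by rw [h2, h1, inv_inv]
  exact (mul_inv_eq_iff_eq_mul.1 h3).symm

end CfsgLib.FischerThompson
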