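import Cfsg.Agent.Lib.FischerThompson.AutMod
import Cfsg.Agent.Lib.FischerThompson.OddSig
import Cfsg.Prelude.Def_MonsterType
import Cfsg.Agent.Lib.LargeXS.Congr

/-!
The centraliser of the product of two commuting members of type M(22) in the automorphism group.
-/

set_option autoImplicit false
set_option linter.unusedSectionVars false
set_option linter.style.haveILetI false

namespace CfsgLib.FischerThompson

open scoped commutatorElement
open Subgroup Module CfsgLib.Classical.Herm HermSpace CfsgLib.UnitaryTransv CfsgLib.U6Cover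
open CfsgLib.ThreeTrans (link)

variable {F : Type*} [Field F] [Fintype F] {hF : Fintype.card F = 2 ^ 2}
  {G : Type*} [Group G] [Finite G] {D : Set G} {X : Ctx hF G} {y : G} (P : Cfg hF D X y)

local notation "𝓚" => stdHerm hF 4

/-- A subgroup normalises the image of its normal subgroups. -/
theorem le_normalizer_map_normal {Γ : Type*} [Group Γ] (B : Subgroup Γ) (N : Subgroup B) [hN : N.Normal] :
    B ≤ normalizer (N.map B.subtype : Set Γ) := fun σ hσ => mem_normalizer_iff.2 fun x => ⟨by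
      rintro ⟨a, ha, rfl⟩
      exact ⟨⟨σ, hσ⟩ * a * ⟨σ, hσ⟩⁻¹, hN.conj_mem a ha _, rfl⟩, by
      rintro ⟨a, ha, hax⟩
      refine ⟨⟨σ, hσ⟩⁻¹ * a * ⟨σ, hσ⟩⁻¹⁻¹, hN.conj_mem a ha _, ?_⟩
      show σ⁻¹ * (a : Γ) * σ⁻¹⁻¹ = x
      rw [show (a : Γ) = σ * x * σ⁻¹ from hax]
      group⟩

/-- What is needed of the automorphism group. -/
structure Cfg.AutHyp (P : Cfg hF D X y) : Prop where
  amb : P.Amb
  center_bot : center G = ⊥
  pres : ∀ τ : MulAut G, ∀ x ∈ D, τ x ∈ D
  inner : ∀ τ : MulAut G, τ X.d = X.d → (∀ t ∈ link D X.d, τ t = t) → ∃ g, τ = MulAut.conj g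
  trans : ∀ a ∈ D, ∀ b ∈ D, a ≠ b → Commute a b → ∃ g : G, g * a * g⁻¹ = X.d ∧ g * b * g⁻¹ = y
  outer : ∃ σ : MulAut G, σ ∉ (MulAut.conj : G →* MulAut G).range
  index : ∀ σ τ : MulAut G, σ ∉ (MulAut.conj : G →* MulAut G).range →
    τ ∉ (MulAut.conj : G →* MulAut G).range → σ * τ ∈ (MulAut.conj : G →* MulAut G).range

/-- The centraliser of the product in the automorphism group. -/
def Cfg.B (_P : Cfg hF D X y) : Subgroup (MulAut G) :=
  centralizer ({MulAut.conj (X.d * y)} : Set (MulAut G))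

variable {P} (H : P.AutHyp)

include H

theorem Cfg.AutHyp.conj_inj {a b : G} (h : MulAut.conj a = MulAut.conj b) : a = b := by
  have h1 : b⁻¹ * a ∈ center G := mem_center_iff.2 fun x => by
    have h2 : a * x * a⁻¹ = b * x * b⁻¹ := by simpa using DFunLike.congr_fun h x
    calc x * (b⁻¹ * a) = b⁻¹ * (b * x * b⁻¹) * a := by group
      _ = b⁻¹ * (a * x * a⁻¹) * a := by rw [h2]
      _ = b⁻¹ * a * x := by group
  rw [H.center_bot, mem_bot] at h1
  exact (inv_mul_eq_one.1 h1).symm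

theorem Cfg.AutHyp.aut_conj (σ : MulAut G) (g : G) : σ * MulAut.conj g = MulAut.conj (σ g) * σ :=
  MulEquiv.ext fun x => by simp [MulAut.mul_apply]

theorem Cfg.AutHyp.mem_B {σ : MulAut G} : σ ∈ P.B ↔ σ (X.d * y) = X.d * y := by
  rw [Cfg.B, mem_centralizer_singleton_iff, H.aut_conj]
  exact ⟨fun h => H.conj_inj (mul_right_cancel h), fun h => by rw [h]⟩

theorem Cfg.AutHyp.keeps {σ : MulAut G} (h : σ ∈ P.B) : P.Keeps σ :=
  P.keeps_of_fix H.amb (H.pres σ) (H.mem_B.1 h)

theorem Cfg.AutHyp.conj_mem_B {g : G} : MulAut.conj g ∈ P.B ↔ g ∈ P.C := by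
  rw [H.mem_B, MulAut.conj_apply, mul_inv_eq_iff_eq_mul, Cfg.C, mem_centralizer_singleton_iff]

/-- The restriction to the joint centraliser. -/
noncomputable def Cfg.AutHyp.restrK (H : P.AutHyp) (σ : P.B) : MulAut P.K where
  toFun k := ⟨(σ : MulAut G) k, (H.keeps σ.2).mem_K k.2⟩
  invFun k := ⟨(σ : MulAut G)⁻¹ k, (H.keeps σ.2).inv.mem_K k.2⟩
  left_inv _ := Subtype.ext (MulAut.inv_apply_self G _ _)
  right_inv _ := Subtype.ext (MulAut.apply_inv_self G _ _)
  map_mul' _ _ := Subtype.ext (map_mul _ _ _)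

theorem Cfg.AutHyp.restrK_ker (σ : P.B) : P.rho.ker.map (H.restrK σ).toMonoidHom = P.rho.ker := by
  ext k
  constructor
  · rintro ⟨a, ha, rfl⟩
    exact (P.mem_E.1 ((H.keeps σ.2).mem_E (P.mem_E.2 ⟨a.2, ha⟩))).choose_spec
  · intro hk
    refine ⟨(H.restrK σ).symm k, ?_, (H.restrK σ).apply_symm_apply k⟩
    exact (P.mem_E.1 ((H.keeps σ.2).inv.mem_E (P.mem_E.2 ⟨k.2, hk⟩))).choose_spec

/-- The action on the factor group of the joint centraliser. -/
noncomputable def Cfg.AutHyp.act (H : P.AutHyp) : P.B →* MulAut (P.K ⧸ P.rho.ker) :=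
  MonoidHom.mk' (fun σ => QuotientGroup.congr _ _ (H.restrK σ) (H.restrK_ker σ)) fun σ τ =>
    MulEquiv.ext fun q => by
      obtain ⟨k, rfl⟩ := QuotientGroup.mk_surjective q
      rfl

theorem Cfg.AutHyp.act_eq_one {σ : P.B} :
    H.act σ = 1 ↔ ∀ k ∈ P.K, (σ : MulAut G) k * k⁻¹ ∈ P.E := by
  constructor
  · intro h k hk
    have h1 : (QuotientGroup.mk (H.restrK σ ⟨k, hk⟩) : P.K ⧸ P.rho.ker) = QuotientGroup.mk ⟨k, hk⟩ :=
      DFunLike.congr_fun h (QuotientGroup.mk (⟨k, hk⟩ : P.K))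
    rw [QuotientGroup.eq_iff_div_mem, div_eq_mul_inv] at h1
    exact P.mem_E.2 ⟨_, h1⟩
  · intro h
    refine MulEquiv.ext fun q => ?_
    obtain ⟨k, rfl⟩ := QuotientGroup.mk_surjective q
    show (QuotientGroup.mk (H.restrK σ k) : P.K ⧸ P.rho.ker) = QuotientGroup.mk k
    rw [QuotientGroup.eq_iff_div_mem, div_eq_mul_inv]
    exact (P.mem_E.1 (h k k.2)).choose_spec

/-- Conjugation by the centraliser. -/
noncomputable def Cfg.AutHyp.conjB (H : P.AutHyp) : P.C →* P.B :=
  MonoidHom.mk' (fun c => ⟨MulAut.conj (c : G), H.conj_mem_B.2 c.2⟩)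
    fun a b => Subtype.ext (map_mul MulAut.conj (a : G) b)

theorem Cfg.AutHyp.conjB_injective : Function.Injective H.conjB := fun _ _ h =>
  Subtype.ext (H.conj_inj (congrArg Subtype.val h))

theorem Cfg.AutHyp.act_conjB_ker : (H.act.comp H.conjB).ker = P.E.subgroupOf P.C := by
  ext c
  rw [MonoidHom.mem_ker, MonoidHom.comp_apply, H.act_eq_one, mem_subgroupOf]
  constructor
  · intro h
    rcases P.mem_C_cases H.amb c.2 with hk | hs
    · refine P.mem_E.2 ⟨hk, P.rho_one_of_commute (det_res hF _) fun m hm => ?_⟩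
      obtain ⟨⟨k, hk'⟩, rfl⟩ := (P.rho_range m).2 hm
      obtain ⟨hm', h1⟩ := P.mem_E.1 (h k hk')
      have e3 : (⟨MulAut.conj (c : G) k * k⁻¹, hm'⟩ : P.K) * (⟨k, hk'⟩ * ⟨c, hk⟩) = ⟨c, hk⟩ * ⟨k, hk'⟩ :=
        Subtype.ext (show MulAut.conj (c : G) k * k⁻¹ * (k * c) = c * k by rw [MulAut.conj_apply]; group)
      have e4 := congrArg P.rho e3
      change P.rho ((⟨MulAut.conj (c : G) k * k⁻¹, hm'⟩ : P.K) * (⟨k, hk'⟩ * ⟨c, hk⟩)) = _ at e4
      rw [map_mul, show P.rho (⟨MulAut.conj (c : G) k * k⁻¹, hm'⟩ : P.K) = 1 from h1, one_mul, map_mul,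
        map_mul] at e4
      exact e4
    · exact (P.outer H.amb.ctx hs fun k hk => h k hk).elim
  · intro hc k hk
    show (c : G) * k * (c : G)⁻¹ * k⁻¹ ∈ P.E
    rw [show (c : G) * k * (c : G)⁻¹ * k⁻¹ = c * (k * (c : G)⁻¹ * k⁻¹) by group]
    exact mul_mem hc (P.conj_mem_E hk (inv_mem hc))

omit H in
theorem Cfg.factor_equiv (P : Cfg hF D X y) :
    Nonempty (P.K ⧸ P.rho.ker ≃* Cfsg.PSU 4 F 2) := by
  haveI := isSimple_su_four hF
  have hbot : center (Cfsg.SU 4 F 2) = ⊥ := by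
    refine eq_bot_iff.2 fun g hg => mem_bot.2 ?_
    have h1 : ((suEquiv hF 4) g).1 = 1 := P.rho_one_of_commute (MonoidHom.mem_ker.1 ((suEquiv hF 4) g).2)
      fun m hm => by
        obtain ⟨b, hb⟩ := (suEquiv hF 4).surjective ⟨m, MonoidHom.mem_ker.2 hm⟩
        rw [show m = ((suEquiv hF 4) b).1 by rw [hb], ← Subgroup.coe_mul, ← Subgroup.coe_mul, ← map_mul, ← map_mul,
          mem_center_iff.1 hg b]
    exact (suEquiv hF 4).map_eq_one_iff.1 (Subtype.ext h1)
  let e1 : Cfsg.SU 4 F 2 ≃* P.rho.range := (suEquiv hF 4).trans (MulEquiv.subgroupCongr (by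
    ext m; rw [MonoidHom.mem_ker, MonoidHom.mem_range]; exact (P.rho_range m).symm))
  exact ⟨(QuotientGroup.quotientKerEquivRange P.rho).trans (e1.symm.trans
    (QuotientGroup.quotientBot.symm.trans (QuotientGroup.quotientMulEquivOfEq hbot.symm)))⟩

theorem Cfg.AutHyp.card_aut_factor :
    Nat.card (MulAut (P.K ⧸ P.rho.ker)) * Nat.card P.E = Nat.card P.C := by
  haveI := P.normal_E H.amb
  obtain ⟨a⟩ := P.quot_iso H.amb
  obtain ⟨e⟩ := P.factor_equiv
  rw [Nat.card_congr (MulAut.congr e).toEquiv, ← Nat.card_congr a.toEquiv,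
    ← Nat.card_congr (subgroupOfEquivOfLe (P.E_le.trans P.K_le_C)).toEquiv,
    ← card_eq_card_quotient_mul_card_subgroup]

theorem Cfg.AutHyp.act_comp_surjective : Function.Surjective (H.act.comp H.conjB) := by
  obtain ⟨e⟩ := P.factor_equiv
  haveI : Finite (P.K ⧸ P.rho.ker) := inferInstance
  rw [← MonoidHom.range_eq_top]
  refine Subgroup.eq_top_of_card_eq _ ?_
  have h1 := Nat.card_congr (QuotientGroup.quotientKerEquivRange (H.act.comp H.conjB)).toEquiv
  have h2 := card_eq_card_quotient_mul_card_subgroup (H.act.comp H.conjB).ker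
  rw [← H.card_aut_factor, h1] at h2
  rw [show Nat.card (H.act.comp H.conjB).ker = Nat.card P.E by
    rw [H.act_conjB_ker, Nat.card_congr (subgroupOfEquivOfLe (P.E_le.trans P.K_le_C)).toEquiv]] at h2
  exact (Nat.eq_of_mul_eq_mul_right Nat.card_pos h2).symm

theorem Cfg.AutHyp.act_surjective : Function.Surjective H.act := fun q => by
  obtain ⟨c, hc⟩ := H.act_comp_surjective q
  exact ⟨_, hc⟩

theorem Cfg.AutHyp.exists_outer_B : ∃ σ ∈ P.B, σ ∉ (MulAut.conj : G →* MulAut G).range := by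
  obtain ⟨σ, hσ⟩ := H.outer
  obtain ⟨g, h1, h2⟩ := H.trans _ (H.pres σ _ P.base.mem) _ (H.pres σ _ P.mem)
    (fun h => P.ne (σ.injective h).symm) (P.commute.map σ)
  refine ⟨MulAut.conj g * σ, H.mem_B.2 ?_, fun h => hσ ?_⟩
  · rw [MulAut.mul_apply, MulAut.conj_apply, map_mul]
    calc g * (σ X.d * σ y) * g⁻¹ = (g * σ X.d * g⁻¹) * (g * σ y * g⁻¹) := by group
      _ = X.d * y := by rw [h1, h2]
  · have h3 := mul_mem (inv_mem (⟨g, rfl⟩ : MulAut.conj g ∈ (MulAut.conj : G →* MulAut G).range)) h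
    rwa [inv_mul_cancel_left] at h3

theorem Cfg.AutHyp.mem_range_conjB {σ : P.B} :
    σ ∈ H.conjB.range ↔ (σ : MulAut G) ∈ (MulAut.conj : G →* MulAut G).range := by
  constructor
  · rintro ⟨c, rfl⟩; exact ⟨c, rfl⟩
  · rintro ⟨g, hg⟩
    exact ⟨⟨g, H.conj_mem_B.1 (hg ▸ σ.2)⟩, Subtype.ext hg⟩

theorem Cfg.AutHyp.card_B : Nat.card P.B = 2 * Nat.card P.C := by
  obtain ⟨σ, hσB, hσ⟩ := H.exists_outer_B
  have hidx : H.conjB.range.index = 2 := by
    refine Subgroup.index_eq_two_iff.2 ⟨⟨σ, hσB⟩, fun b => ?_⟩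
    simp only [H.mem_range_conjB, Subgroup.coe_mul]
    by_cases hb : (b : MulAut G) ∈ (MulAut.conj : G →* MulAut G).range
    · refine Or.inr ⟨hb, fun h => hσ ?_⟩
      have h3 := mul_mem (inv_mem hb) h
      rwa [inv_mul_cancel_left] at h3
    · exact Or.inl ⟨H.index _ _ hb hσ, hb⟩
  rw [← card_mul_index H.conjB.range, hidx, mul_comm,
    Nat.card_congr (MonoidHom.ofInjective H.conjB_injective).toEquiv]

theorem Cfg.AutHyp.card_ker : Nat.card H.act.ker = 2 ^ 11 := by
  haveI : Finite (MulAut (P.K ⧸ P.rho.ker)) := inferInstance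
  have h2 := card_eq_card_quotient_mul_card_subgroup H.act.ker
  rw [Nat.card_congr (QuotientGroup.quotientKerEquivOfSurjective H.act H.act_surjective).toEquiv, H.card_B,
    ← H.card_aut_factor, P.card_E] at h2
  have hpos : 0 < Nat.card (MulAut (P.K ⧸ P.rho.ker)) := Nat.card_pos
  refine Nat.eq_of_mul_eq_mul_left hpos ?_
  rw [← h2]
  ring

theorem Cfg.AutHyp.triv {q : P.B} (hq : q ∈ H.act.ker) : P.Triv (q : MulAut G) where
  keeps := H.keeps q.2
  triv := H.act_eq_one.1 hq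
  sq := by
    by_cases h : (q : MulAut G) ∈ (MulAut.conj : G →* MulAut G).range
    · obtain ⟨g, hg⟩ := mul_mem h h; exact ⟨g, hg.symm⟩
    · obtain ⟨g, hg⟩ := H.index _ _ h h; exact ⟨g, hg.symm⟩

/-- The inner elements of the subgroup come from the subgroup of order `2 ^ 10`. -/
theorem Cfg.AutHyp.inner_mem {q : P.B} (hq : q ∈ H.act.ker)
    (h : (q : MulAut G) ∈ (MulAut.conj : G →* MulAut G).range) :
    ∃ e ∈ P.E, (q : MulAut G) = MulAut.conj e := by
  obtain ⟨c, rfl⟩ := H.mem_range_conjB.2 h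
  have h1 : c ∈ (H.act.comp H.conjB).ker := hq
  rw [H.act_conjB_ker] at h1
  exact ⟨c, mem_subgroupOf.1 h1, rfl⟩

/-- The outer elements of the subgroup interchange the two members. -/
theorem Cfg.AutHyp.swaps {q : P.B} (hq : q ∈ H.act.ker)
    (h : (q : MulAut G) ∉ (MulAut.conj : G →* MulAut G).range) :
    (q : MulAut G) X.d = y ∧ (q : MulAut G) y = X.d := by
  rcases H.keeps q.2 with ⟨a, b⟩ | ⟨a, b⟩
  · obtain ⟨g, hg⟩ := (H.triv hq).inner_of_fix (P := P) H.center_bot H.amb H.inner H.pres a b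
    exact absurd ⟨g, hg.symm⟩ h
  · exact ⟨a, b⟩

/-- The central element of the subgroup. -/
noncomputable def Cfg.AutHyp.zB (_H : P.AutHyp) : P.B :=
  ⟨MulAut.conj (X.d * y), mem_centralizer_singleton_iff.2 rfl⟩

theorem Cfg.AutHyp.conj_E_mem {e : G} (he : e ∈ P.E) :
    ∃ hB : MulAut.conj e ∈ P.B, (⟨MulAut.conj e, hB⟩ : P.B) ∈ H.act.ker := by
  have hc : e ∈ P.C := P.K_le_C (P.E_le he)
  refine ⟨H.conj_mem_B.2 hc, ?_⟩
  have h1 : (⟨e, hc⟩ : P.C) ∈ (H.act.comp H.conjB).ker := by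
    rw [H.act_conjB_ker]; exact mem_subgroupOf.2 he
  exact h1

theorem Cfg.AutHyp.exists_outer_ker :
    ∃ q : P.B, q ∈ H.act.ker ∧ (q : MulAut G) ∉ (MulAut.conj : G →* MulAut G).range := by
  obtain ⟨σ, hσB, hσ⟩ := H.exists_outer_B
  obtain ⟨c, hc⟩ := H.act_comp_surjective (H.act ⟨σ, hσB⟩)
  refine ⟨(H.conjB c)⁻¹ * ⟨σ, hσB⟩, ?_, fun h => hσ ?_⟩
  · rw [MonoidHom.mem_ker, map_mul, map_inv, ← hc]
    exact inv_mul_cancel _
  · have h3 := mul_mem (⟨(c : G), rfl⟩ : MulAut.conj (c : G) ∈ (MulAut.conj : G →* MulAut G).range) h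
    rwa [show MulAut.conj (c : G) * (((H.conjB c)⁻¹ * ⟨σ, hσB⟩ : P.B) : MulAut G) = σ from
      mul_inv_cancel_left _ _] at h3

theorem Cfg.AutHyp.sq_ker {q : P.B} (hq : q ∈ H.act.ker) : q * q = 1 ∨ q * q = H.zB := by
  obtain ⟨s, hs⟩ := H.amb.swap
  by_cases h : (q : MulAut G) ∈ (MulAut.conj : G →* MulAut G).range
  · obtain ⟨e, he, hqe⟩ := H.inner_mem hq h
    rcases P.sq_E hs he with r | r
    · exact Or.inl (Subtype.ext (by rw [Subgroup.coe_mul, hqe, ← map_mul, r, map_one]; rfl))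
    · exact Or.inr (Subtype.ext (by rw [Subgroup.coe_mul, hqe, ← map_mul, r]; rfl))
  obtain ⟨hd, hy⟩ := H.swaps hq h
  obtain ⟨g, hgE, hg⟩ := H.inner_mem (mul_mem hq hq) (H.index _ _ h h)
  rw [Subgroup.coe_mul] at hg
  have hcentral : ∀ f ∈ P.E, g * f = f * g := by
    intro f hf
    have h1 : (q : MulAut G) ((q : MulAut G) f) = g * f * g⁻¹ := DFunLike.congr_fun hg f
    rcases (H.triv hq).map_E_eq (P := P) H.center_bot H.amb hf with r | r
    · rw [r, r] at h1
      exact mul_inv_eq_iff_eq_mul.1 h1.symm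
    · rw [r, map_mul, r, (H.triv hq).keeps.map_z, mul_assoc, P.z_sq, mul_one] at h1
      exact mul_inv_eq_iff_eq_mul.1 h1.symm
  have hfix : (q : MulAut G) g = g := by
    refine H.conj_inj (mul_right_cancel (b := (q : MulAut G)) ?_)
    rw [← H.aut_conj, ← hg, mul_assoc]
  rcases P.center_E hgE hcentral with r | r | r | r
  · exact Or.inl (Subtype.ext (by rw [Subgroup.coe_mul, hg, r, map_one]; rfl))
  · rw [r, hd] at hfix; exact absurd hfix P.ne
  · rw [r, hy] at hfix; exact absurd hfix.symm P.ne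
  · exact Or.inr (Subtype.ext (by rw [Subgroup.coe_mul, hg, r]; rfl))

theorem Cfg.AutHyp.zB_mem : H.zB ∈ H.act.ker := (H.conj_E_mem (mul_mem P.d_mem_E P.y_mem_E)).choose_spec

theorem Cfg.AutHyp.zB_ne : H.zB ≠ 1 := fun h => by
  have h1 : X.d * y = 1 := H.conj_inj ((congrArg Subtype.val h).trans (map_one MulAut.conj).symm)
  exact P.ne ((eq_inv_of_mul_eq_one_right h1).trans (CfsgLib.ThreeTrans.inv_eq P.base.cls.1 P.base.mem))

theorem Cfg.AutHyp.zB_central (q : P.B) : q * H.zB = H.zB * q :=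
  Subtype.ext (mem_centralizer_singleton_iff.1 q.2)

/-- An element of the subgroup commuting with all of it is central. -/
theorem Cfg.AutHyp.central_cases {q : P.B} (hq : q ∈ H.act.ker) (h : ∀ a ∈ H.act.ker, q * a = a * q) :
    q = 1 ∨ q = H.zB := by
  have hfix : ∀ e ∈ P.E, (q : MulAut G) e = e := by
    intro e he
    obtain ⟨hB, hm⟩ := H.conj_E_mem he
    have h1 : (q : MulAut G) * MulAut.conj e = MulAut.conj e * (q : MulAut G) := congrArg Subtype.val (h _ hm)
    rw [H.aut_conj] at h1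
    exact H.conj_inj (mul_right_cancel h1)
  have hin : (q : MulAut G) ∈ (MulAut.conj : G →* MulAut G).range := by
    by_contra hn
    exact P.ne ((H.swaps hq hn).1.symm.trans (hfix _ P.d_mem_E))
  obtain ⟨e, he, hqe⟩ := H.inner_mem hq hin
  obtain ⟨o, ho, hon⟩ := H.exists_outer_ker
  obtain ⟨hd, hy⟩ := H.swaps ho hon
  have hoe : (o : MulAut G) e = e := by
    have h1 : (q : MulAut G) * (o : MulAut G) = (o : MulAut G) * (q : MulAut G) := congrArg Subtype.val (h o ho)
    rw [hqe, H.aut_conj] at h1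
    exact H.conj_inj (mul_right_cancel h1.symm)
  rcases P.center_E he (fun f hf => by
      have h1 := hfix f hf
      rw [hqe, MulAut.conj_apply] at h1
      exact mul_inv_eq_iff_eq_mul.1 h1) with r | r | r | r
  · exact Or.inl (Subtype.ext (by rw [hqe, r, map_one]; rfl))
  · rw [r, hd] at hoe; exact absurd hoe P.ne
  · rw [r, hy] at hoe; exact absurd hoe.symm P.ne
  · exact Or.inr (Subtype.ext (by rw [hqe, r]; rfl))

set_option maxHeartbeats 1000000 in
theorem Cfg.AutHyp.extraspecial : Cfsg.IsExtraspecial 2 H.act.ker := by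
  classical
  haveI : Fact (Nat.Prime 2) := ⟨Nat.prime_two⟩
  have hp : IsPGroup 2 H.act.ker := IsPGroup.of_card H.card_ker
  let zz : H.act.ker := ⟨H.zB, H.zB_mem⟩
  have hcenter : ∀ g : H.act.ker, g ∈ center ↥H.act.ker ↔ g = 1 ∨ g = zz := by
    intro g
    constructor
    · intro hg
      rcases H.central_cases g.2 (fun a ha => (congrArg Subtype.val (mem_center_iff.1 hg ⟨a, ha⟩)).symm) with r | r
      · exact Or.inl (Subtype.ext r)
      · exact Or.inr (Subtype.ext r)
    · rintro (rfl | rfl)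
      · exact one_mem _
      · exact mem_center_iff.2 fun a => Subtype.ext (H.zB_central a)
  have hz1 : zz ≠ 1 := fun h => H.zB_ne (congrArg Subtype.val h)
  have hcardZ : Nat.card (center ↥H.act.ker) = 2 := by
    have h : (center ↥H.act.ker : Set ↥H.act.ker) = {1, zz} := Set.ext fun g => by
      rw [SetLike.mem_coe, hcenter, Set.mem_insert_iff, Set.mem_singleton_iff]
    rw [← SetLike.coe_sort_coe, Nat.card_coe_set_eq, h, Set.ncard_pair hz1.symm]
  have hsq : ∀ a : H.act.ker, a * a ∈ center ↥H.act.ker := fun a => (hcenter _).2 ((H.sq_ker a.2).imp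
    (fun r => Subtype.ext r) (fun r => Subtype.ext r))
  have hcommZ : commutator ↥H.act.ker ≤ center ↥H.act.ker := by
    rw [_root_.commutator_def, commutator_le]
    intro a _ b _
    rw [commutatorElement_def, show a * b * a⁻¹ * b⁻¹ =
      (a * b) * (a * b) * ((b⁻¹ * a⁻¹ * b) * (b⁻¹ * a⁻¹ * b)) * (b⁻¹ * b⁻¹) by group]
    exact mul_mem (mul_mem (hsq _) (hsq _)) (hsq _)
  have hnab : commutator ↥H.act.ker ≠ ⊥ := by
    intro h
    have hab : ∀ a b : H.act.ker, a * b = b * a := fun a b => by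
      have h1 : ⁅a, b⁆ ∈ commutator ↥H.act.ker := by
        rw [_root_.commutator_def]; exact commutator_mem_commutator (mem_top a) (mem_top b)
      rw [h, mem_bot] at h1
      exact commutatorElement_eq_one_iff_mul_comm.1 h1
    have htop : center ↥H.act.ker = ⊤ := eq_top_iff.2 fun g _ => mem_center_iff.2 fun b => hab b g
    rw [htop, Subgroup.card_top, H.card_ker] at hcardZ
    norm_num at hcardZ
  have hcomm : commutator ↥H.act.ker = center ↥H.act.ker := by
    refine Subgroup.eq_of_le_of_card_ge hcommZ ?_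
    rw [hcardZ]
    exact one_lt_card_iff_ne_bot _ |>.2 hnab
  refine ⟨⟨hp, le_antisymm ?_ ?_, hcomm⟩, hcardZ⟩
  · refine CfsgLib.PGroup.frattini_le_of_elementary (p := 2) (fun a b => hcommZ ?_) fun g => ?_
    · rw [_root_.commutator_def]; exact commutator_mem_commutator (mem_top a) (mem_top b)
    · rw [pow_two]; exact hsq g
  · rw [← hcomm]
    exact CfsgLib.PGroup.commutator_le_frattini hp

/-- The centralizer of the subgroup is its centre. -/
theorem Cfg.AutHyp.centralizer_cases {σ : MulAut G}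
    (h : ∀ a ∈ H.act.ker, σ * (a : MulAut G) = (a : MulAut G) * σ) :
    σ = 1 ∨ σ = MulAut.conj (X.d * y) := by
  have hB : σ ∈ P.B := mem_centralizer_singleton_iff.2 (h _ H.zB_mem)
  have hfix : ∀ e ∈ P.E, σ e = e := by
    intro e he
    obtain ⟨hB', hm⟩ := H.conj_E_mem he
    have h1 : σ * MulAut.conj e = MulAut.conj e * σ := h _ hm
    rw [H.aut_conj] at h1
    exact H.conj_inj (mul_right_cancel h1)
  have hker : (⟨σ, hB⟩ : P.B) ∈ H.act.ker := by
    refine H.act_eq_one.2 fun k hk => ?_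
    refine P.mem_E_of_centralizes (mul_mem ((H.keeps hB).mem_K hk) (inv_mem hk)) fun f hf => ?_
    have hf' := P.conj_mem_E (inv_mem hk) hf
    rw [inv_inv] at hf'
    have h1 := hfix _ hf'
    rw [map_mul, map_mul, map_inv, hfix f hf] at h1
    show σ k * k⁻¹ * f * (σ k * k⁻¹)⁻¹ = f
    calc σ k * k⁻¹ * f * (σ k * k⁻¹)⁻¹ = σ k * (k⁻¹ * f * k) * (σ k)⁻¹ := by group
      _ = σ k * ((σ k)⁻¹ * f * σ k) * (σ k)⁻¹ := by rw [h1]
      _ = f := by group
  rcases H.central_cases hker (fun a ha => Subtype.ext (h a ha)) with r | r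
  · exact Or.inl (congrArg Subtype.val r)
  · exact Or.inr (congrArg Subtype.val r)

set_option maxHeartbeats 1000000 in
theorem Cfg.AutHyp.large : Cfsg.IsLargeExtraspecial (H.act.ker.map P.B.subtype) := by
  classical
  have hez : ∀ x, x ∈ (center ↥(H.act.ker.map P.B.subtype)).map (H.act.ker.map P.B.subtype).subtype ↔
      x = 1 ∨ x = MulAut.conj (X.d * y) := by
    intro x
    constructor
    · rintro ⟨⟨-, a, ha, rfl⟩, hc, rfl⟩
      refine H.centralizer_cases fun b hb => ?_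
      exact (congrArg Subtype.val (mem_center_iff.1 hc ⟨_, b, hb, rfl⟩)).symm
    · rintro (rfl | rfl)
      · exact one_mem _
      · refine ⟨⟨_, H.zB, H.zB_mem, rfl⟩, mem_center_iff.2 ?_, rfl⟩
        rintro ⟨-, b, -, rfl⟩
        exact Subtype.ext (mem_centralizer_singleton_iff.1 b.2)
  refine ⟨?_, ?_, ?_, ?_⟩
  · have h := H.extraspecial
    exact CfsgLib.LargeXS.isExtraspecial_congr (H.act.ker.equivMapOfInjective _ P.B.subtype_injective) h
  · ext σ
    rw [hez]
    constructor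
    · intro h
      refine H.centralizer_cases fun a ha => ?_
      exact (mem_centralizer_iff.1 h _ ⟨a, ha, rfl⟩).symm
    · rintro (rfl | rfl)
      · exact one_mem _
      · refine mem_centralizer_iff.2 ?_
        rintro _ ⟨b, -, rfl⟩
        exact mem_centralizer_singleton_iff.1 b.2
  · intro σ hσ
    have hB : σ ∈ P.B := mem_centralizer_singleton_iff.2 (mem_centralizer_iff.1 hσ _ ((hez _).2 (Or.inr rfl))).symm
    exact le_normalizer_map_normal P.B H.act.ker hB
  · intro K₀ hodd hQ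
    have hle : K₀ ≤ (MulAut.conj : G →* MulAut G).range := by
      intro x hx
      have hx2 : x * x ∈ (MulAut.conj : G →* MulAut G).range := by
        by_cases h : x ∈ (MulAut.conj : G →* MulAut G).range
        · exact mul_mem h h
        · exact H.index _ _ h h
      obtain ⟨m, hm⟩ := hodd
      have h1 : (⟨x, hx⟩ : K₀) ^ Nat.card K₀ = 1 := pow_card_eq_one'
      have h2 : x ^ (2 * m + 1) = 1 := by rw [← hm]; exact congrArg Subtype.val h1
      have h3 : x = (x * x) ^ (m + 1) := by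
        rw [← pow_two, ← pow_mul, show 2 * (m + 1) = (2 * m + 1) + 1 by ring, pow_succ, h2, one_mul]
      rw [h3]; exact pow_mem hx2 _
    have hmap : (K₀.comap (MulAut.conj : G →* MulAut G)).map (MulAut.conj : G →* MulAut G) = K₀ :=
      map_comap_eq_self hle
    have hinj : Function.Injective (MulAut.conj : G →* MulAut G) := fun a b h => H.conj_inj h
    have hbot := P.odd_bot H.amb (K₀ := K₀.comap (MulAut.conj : G →* MulAut G))
      (by rw [Nat.card_congr ((K₀.comap (MulAut.conj : G →* MulAut G)).equivMapOfInjective _ hinj).toEquiv, hmap]; exact hodd)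
      (fun e he k hk => by
        obtain ⟨hB, hm⟩ := H.conj_E_mem he
        show MulAut.conj (e * k * e⁻¹) ∈ K₀
        rw [map_mul, map_mul, map_inv]
        exact (mem_normalizer_iff.1 (hQ ⟨_, hm, rfl⟩) _).1 hk)
    rw [← hmap, hbot, Subgroup.map_bot]

theorem Cfg.AutHyp.genFitting_B : Cfsg.generalizedFittingSubgroup ↥P.B = H.act.ker := by
  haveI : Fact (Nat.Prime 2) := ⟨Nat.prime_two⟩
  have hp : IsPGroup 2 H.act.ker := IsPGroup.of_card H.card_ker
  have hEF : H.act.ker ≤ Cfsg.fittingSubgroup ↥P.B :=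
    CfsgLib.Components.le_fitting_of_normal inferInstance hp.isNilpotent
  obtain ⟨e⟩ := P.factor_equiv
  haveI := P.isSimple_range
  haveI : Nontrivial (P.K ⧸ P.rho.ker) := (QuotientGroup.quotientKerEquivRange P.rho).toEquiv.nontrivial
  haveI : IsSimpleGroup (P.K ⧸ P.rho.ker) := IsSimpleGroup.isSimpleGroup_of_surjective
    (QuotientGroup.quotientKerEquivRange P.rho).symm.toMonoidHom
    (QuotientGroup.quotientKerEquivRange P.rho).symm.surjective
  have hncomm : ¬ ∀ a b : P.K ⧸ P.rho.ker, a * b = b * a := by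
    intro hcomm
    obtain ⟨k, hk⟩ := P.exists_ne_one
    refine hk (P.rho_one_of_commute (det_res hF _) fun m' hm' => ?_)
    obtain ⟨k', rfl⟩ := (P.rho_range m').2 hm'
    have h1 := congrArg (QuotientGroup.kerLift P.rho) (hcomm (QuotientGroup.mk k') (QuotientGroup.mk k))
    rw [map_mul, map_mul, QuotientGroup.kerLift_mk, QuotientGroup.kerLift_mk] at h1
    exact h1
  have hconj : Function.Injective (MulAut.conj : P.K ⧸ P.rho.ker →* MulAut (P.K ⧸ P.rho.ker)) := by
    rw [injective_iff_map_eq_one]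
    intro a ha
    have hac : a ∈ center (P.K ⧸ P.rho.ker) := mem_center_iff.2 fun b => by
      have h1 : a * b * a⁻¹ = b := DFunLike.congr_fun ha b
      exact (mul_inv_eq_iff_eq_mul.1 h1).symm
    rcases (inferInstance : (center (P.K ⧸ P.rho.ker)).Normal).eq_bot_or_eq_top with h | h
    · rwa [h, mem_bot] at hac
    · exact absurd (fun a b => mem_center_iff.1 (h ▸ mem_top b) a) hncomm
  have hFE : Cfsg.fittingSubgroup ↥P.B ≤ H.act.ker := by
    refine sSup_le fun M ⟨hMn, hMnil⟩ x hx => ?_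
    haveI := hMn
    haveI := hMnil
    let M' := M.map H.act
    haveI hM'n : M'.Normal := hMn.map _ H.act_surjective
    haveI : Group.IsNilpotent M' :=
      Group.nilpotent_of_surjective (H.act.subgroupMap M) (H.act.subgroupMap_surjective M)
    haveI : (M'.comap (MulAut.conj : P.K ⧸ P.rho.ker →* MulAut (P.K ⧸ P.rho.ker))).Normal := inferInstance
    rcases (inferInstance :
      (M'.comap (MulAut.conj : P.K ⧸ P.rho.ker →* MulAut (P.K ⧸ P.rho.ker))).Normal).eq_bot_or_eq_top with h | h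
    · rw [MonoidHom.mem_ker]
      refine MulEquiv.ext fun l => ?_
      have hm : H.act x ∈ M' := ⟨x, hx, rfl⟩
      have h1 : MulAut.conj ((H.act x) l * l⁻¹) ∈ M' := by
        rw [map_mul, show MulAut.conj ((H.act x) l) = H.act x * MulAut.conj l * (H.act x)⁻¹ from
          MulEquiv.ext fun b => by simp [MulAut.mul_apply], map_inv, mul_assoc, mul_assoc,
          ← mul_assoc (MulAut.conj l)]
        exact mul_mem hm (hM'n.conj_mem _ (inv_mem hm) _)
      have h2 : (H.act x) l * l⁻¹ ∈ M'.comap (MulAut.conj : P.K ⧸ P.rho.ker →* MulAut (P.K ⧸ P.rho.ker)) := h1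
      rw [h, mem_bot, mul_inv_eq_one] at h2
      exact h2
    · exfalso
      refine hncomm ?_
      haveI : Group.IsNilpotent (P.K ⧸ P.rho.ker) :=
        Group.nilpotent_of_mulEquiv (((MonoidHom.ofInjective hconj).trans
          (subgroupOfEquivOfLe (show (MulAut.conj : P.K ⧸ P.rho.ker →* MulAut (P.K ⧸ P.rho.ker)).range ≤ M' by
            rintro _ ⟨a, rfl⟩; exact show a ∈ M'.comap _ from h ▸ mem_top a)).symm).symm)
      exact fun a b => (IsSimpleGroup.comm_iff_isSolvable (G := P.K ⧸ P.rho.ker)).2 inferInstance a b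
  have hF' : Cfsg.fittingSubgroup ↥P.B = H.act.ker := le_antisymm hFE hEF
  rw [CfsgLib.Components.genFitting_eq_fitting_of_layer_eq_bot, hF']
  refine CfsgLib.Components.centralizer_fitting_le_iff.1 fun c hc => ?_
  rw [hF'] at hc ⊢
  rcases H.centralizer_cases (σ := (c : MulAut G)) (fun a ha =>
    (congrArg Subtype.val (mem_centralizer_iff.1 hc a ha)).symm) with r | r
  · rw [show c = 1 from Subtype.ext r]; exact one_mem _
  · rw [show c = H.zB from Subtype.ext r]; exact H.zB_mem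

theorem Cfg.AutHyp.quotient_iso :
    Nonempty (↥P.B ⧸ H.act.ker ≃* MulAut (Cfsg.PSU 4 F 2)) := by
  obtain ⟨e⟩ := P.factor_equiv
  exact ⟨(QuotientGroup.quotientKerEquivOfSurjective H.act H.act_surjective).trans (MulAut.congr e)⟩

end CfsgLib.FischerThompson
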