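import Cfsg.Agent.Lib.FischerThompson.PairCent
import Cfsg.Agent.Lib.ThreeTrans.Fischer

/-!
Automorphisms fixing the product of the two members and trivial on the joint centraliser modulo its subgroup
of order `2 ^ 10`: they are inner unless they interchange the two members.
-/

set_option autoImplicit false
set_option linter.unusedSectionVars false
set_option linter.style.haveILetI false

namespace CfsgLib.FischerThompson

open Subgroup Module CfsgLib.Classical.Herm HermSpace CfsgLib.UnitaryTransv CfsgLib.U6Cover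
open CfsgLib.ThreeTrans (link)

variable {F : Type*} [Field F] [Fintype F] {hF : Fintype.card F = 2 ^ 2}
  {G : Type*} [Group G] [Finite G] {D : Set G} {X : Ctx hF G} {y : G}

local notation "𝓗" => stdHerm hF 6
local notation "𝓚" => stdHerm hF 4

/-- An automorphism permuting the two members. -/
def Cfg.Keeps (_P : Cfg hF D X y) (σ : MulAut G) : Prop :=
  (σ X.d = X.d ∧ σ y = y) ∨ (σ X.d = y ∧ σ y = X.d)

variable (P : Cfg hF D X y)

include P

omit P in
theorem Cfg.Keeps.map_z {P : Cfg hF D X y} {σ : MulAut G} (h : P.Keeps σ) : σ (X.d * y) = X.d * y := by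
  rcases h with ⟨a, b⟩ | ⟨a, b⟩ <;> rw [map_mul, a, b]
  exact P.commute.eq.symm

theorem Cfg.keeps_of_fix (A : P.Amb) {σ : MulAut G} (hpres : ∀ x ∈ D, σ x ∈ D) (hz : σ (X.d * y) = X.d * y) :
    P.Keeps σ := by
  rw [map_mul] at hz
  exact A.uniq _ (hpres _ P.base.mem) _ (hpres _ P.mem) (fun h => P.ne (σ.injective h).symm)
    (P.commute.map σ) hz

omit P in
theorem Cfg.Keeps.mem_K {P : Cfg hF D X y} {σ : MulAut G} (h : P.Keeps σ) {k : G} (hk : k ∈ P.K) : σ k ∈ P.K := by
  have h1 : Commute (σ k) (σ X.d) := (P.commute_d hk).map σ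
  have h2 : Commute (σ k) (σ y) := (P.commute_y hk).map σ
  rcases h with ⟨a, b⟩ | ⟨a, b⟩ <;> rw [a] at h1 <;> rw [b] at h2
  · exact ⟨mem_centralizer_singleton_iff.2 h1.eq, mem_centralizer_singleton_iff.2 h2.eq⟩
  · exact ⟨mem_centralizer_singleton_iff.2 h2.eq, mem_centralizer_singleton_iff.2 h1.eq⟩

omit P in
theorem Cfg.Keeps.inv {P : Cfg hF D X y} {σ : MulAut G} (h : P.Keeps σ) : P.Keeps σ⁻¹ := by
  rcases h with ⟨a, b⟩ | ⟨a, b⟩
  · exact Or.inl ⟨σ.injective ((MulAut.apply_inv_self G σ _).trans a.symm),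
      σ.injective ((MulAut.apply_inv_self G σ _).trans b.symm)⟩
  · exact Or.inr ⟨σ.injective ((MulAut.apply_inv_self G σ _).trans b.symm),
      σ.injective ((MulAut.apply_inv_self G σ _).trans a.symm)⟩

omit P in
theorem Cfg.Keeps.mul {P : Cfg hF D X y} {σ τ : MulAut G} (h : P.Keeps σ) (h' : P.Keeps τ) :
    P.Keeps (σ * τ) := by
  simp only [Cfg.Keeps, MulAut.mul_apply]
  rcases h with ⟨a, b⟩ | ⟨a, b⟩ <;> rcases h' with ⟨c, e⟩ | ⟨c, e⟩ <;> rw [c, e, a, b]
  · exact Or.inl ⟨rfl, rfl⟩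
  · exact Or.inr ⟨rfl, rfl⟩
  · exact Or.inr ⟨rfl, rfl⟩
  · exact Or.inl ⟨rfl, rfl⟩

theorem Cfg.keeps_one : P.Keeps 1 := Or.inl ⟨rfl, rfl⟩

omit P in
theorem Cfg.Keeps.mem_E {P : Cfg hF D X y} {σ : MulAut G} (h : P.Keeps σ) {e : G} (he : e ∈ P.E) :
    σ e ∈ P.E := by
  let N : Subgroup P.K := (P.E.map σ.toMonoidHom).subgroupOf P.K
  haveI : N.Normal := ⟨fun n hn k => by
    obtain ⟨a, ha, hae⟩ := mem_subgroupOf.1 hn
    refine mem_subgroupOf.2 ⟨_, P.conj_mem_E (h.inv.mem_K k.2) ha, ?_⟩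
    show σ (σ⁻¹ (k : G) * a * (σ⁻¹ (k : G))⁻¹) = ((k * n * k⁻¹ : P.K) : G)
    rw [map_mul, map_mul, map_inv, MulAut.apply_inv_self, Subgroup.coe_mul, Subgroup.coe_mul,
      InvMemClass.coe_inv]
    congr 2⟩
  refine P.mem_E.2 ⟨h.mem_K (P.E_le he), P.le_E_of_normal N ?_ _ (mem_subgroupOf.2 ⟨e, he, rfl⟩)⟩
  intro n hn
  obtain ⟨a, ha, hae⟩ := mem_subgroupOf.1 hn
  refine P.rho_four ?_ (n * n).2
  rw [Subgroup.coe_mul, ← show σ a = (n : G) from hae, ← map_mul]
  rcases P.sq_mem_four ha with e' | e' | e' | e' <;> rw [e']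
  · exact Or.inl (map_one _)
  · rcases h with ⟨r, -⟩ | ⟨r, -⟩ <;> rw [r] <;> simp
  · rcases h with ⟨-, r⟩ | ⟨-, r⟩ <;> rw [r] <;> simp
  · exact Or.inr (Or.inr (Or.inr h.map_z))

omit P in
theorem Cfg.Keeps.four {P : Cfg hF D X y} {σ : MulAut G} (h : P.Keeps σ) {e : G}
    (he : e = 1 ∨ e = X.d ∨ e = y ∨ e = X.d * y) :
    σ e = 1 ∨ σ e = X.d ∨ σ e = y ∨ σ e = X.d * y := by
  rcases he with rfl | rfl | rfl | rfl
  · exact Or.inl (map_one _)
  · rcases h with ⟨r, -⟩ | ⟨r, -⟩ <;> rw [r] <;> simp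
  · rcases h with ⟨-, r⟩ | ⟨-, r⟩ <;> rw [r] <;> simp
  · exact Or.inr (Or.inr (Or.inr h.map_z))

/-- An automorphism trivial on the factor group of the joint centraliser. -/
structure Cfg.Triv (P : Cfg hF D X y) (σ : MulAut G) : Prop where
  keeps : P.Keeps σ
  triv : ∀ k ∈ P.K, σ k * k⁻¹ ∈ P.E
  sq : ∃ g, σ * σ = MulAut.conj g

variable {σ : MulAut G} (T₀ : P.Triv σ) (hcen : center G = ⊥)

include T₀

theorem Cfg.Triv.rho_map {k : G} (hk : k ∈ P.K) :
    P.rho ⟨σ k, T₀.keeps.mem_K hk⟩ = P.rho ⟨k, hk⟩ := by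
  obtain ⟨hm, h1⟩ := P.mem_E.1 (T₀.triv k hk)
  rw [show (⟨σ k, T₀.keeps.mem_K hk⟩ : P.K) = ⟨σ k * k⁻¹, hm⟩ * ⟨k, hk⟩ from
    Subtype.ext (show σ k = σ k * k⁻¹ * k by rw [inv_mul_cancel_right]), map_mul, h1, one_mul]

include hcen

/-- The parameters are fixed. -/
theorem Cfg.Triv.par_fixed {e : G} {u : Fin 4 → F} (he : P.HasPar e u) : P.HasPar (σ e) u := by
  have hinj : ∀ {a b : G}, MulAut.conj a = MulAut.conj b → a = b := by
    intro a b h
    have h1 : b⁻¹ * a ∈ center G := mem_center_iff.2 fun x => by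
      have h2 : a * x * a⁻¹ = b * x * b⁻¹ := by simpa using DFunLike.congr_fun h x
      calc x * (b⁻¹ * a) = b⁻¹ * (b * x * b⁻¹) * a := by group
        _ = b⁻¹ * (a * x * a⁻¹) * a := by rw [h2]
        _ = b⁻¹ * a * x := by group
    rw [hcen, mem_bot] at h1
    exact (inv_mul_eq_one.1 h1).symm
  obtain ⟨g, hg⟩ := T₀.sq
  have hgx : ∀ x, σ (σ x) = g * x * g⁻¹ := fun x => DFunLike.congr_fun hg x
  have hgK : g ∈ P.K := by
    have h2 := T₀.keeps.mul T₀.keeps
    have hd : σ (σ X.d) = X.d ∧ σ (σ y) = y := by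
      rcases T₀.keeps with ⟨a, b⟩ | ⟨a, b⟩
      · exact ⟨by rw [a, a], by rw [b, b]⟩
      · exact ⟨by rw [a, b], by rw [b, a]⟩
    exact ⟨mem_centralizer_singleton_iff.2 (mul_inv_eq_iff_eq_mul.1 ((hgx _).symm.trans hd.1)),
      mem_centralizer_singleton_iff.2 (mul_inv_eq_iff_eq_mul.1 ((hgx _).symm.trans hd.2))⟩
  have hg1 : P.rho ⟨g, hgK⟩ = 1 := by
    refine P.rho_one_of_commute (det_res hF _) fun m' hm' => ?_
    obtain ⟨⟨k, hk⟩, rfl⟩ := (P.rho_range m').2 hm'
    have h1 := T₀.rho_map (P := P) (T₀.keeps.mem_K hk)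
    rw [T₀.rho_map (P := P) hk] at h1
    have e1 : (⟨g, hgK⟩ : P.K) * ⟨k, hk⟩ =
        ⟨σ (σ k), T₀.keeps.mem_K (T₀.keeps.mem_K hk)⟩ * ⟨g, hgK⟩ :=
      Subtype.ext (show g * k = σ (σ k) * g by rw [hgx, inv_mul_cancel_right])
    have e2 := congrArg P.rho e1
    rw [map_mul, map_mul, h1] at e2
    exact e2.symm
  let T : AddSubgroup (Fin 4 → F) :=
    { carrier := {u | ∃ e, P.HasPar e u ∧ P.HasPar (σ e) u}
      zero_mem' := ⟨1, P.hasPar_zero_iff.2 (Or.inl rfl), P.hasPar_zero_iff.2 (Or.inl (map_one σ))⟩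
      add_mem' := by
        rintro a b ⟨e, h1, h2⟩ ⟨f, g1, g2⟩
        exact ⟨e * f, h1.mul g1, by rw [map_mul]; exact h2.mul g2⟩
      neg_mem' := by
        rintro a ⟨e, h1, h2⟩
        refine ⟨e, ?_⟩
        rw [show -a = a from neg_eq_of_add_eq_zero_left (smul_add_self_zero hF a)]
        exact ⟨h1, h2⟩ }
  have hinv : ∀ m : Unit' (𝓚), detHom (𝓚) m = 1 → ∀ u ∈ T, m.1 u ∈ T := by
    rintro m hm u ⟨e, h1, h2⟩
    obtain ⟨⟨k, hk⟩, rfl⟩ := (P.rho_range m).2 hm
    refine ⟨k * e * k⁻¹, h1.conj hk, ?_⟩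
    have h3 := h2.conj (T₀.keeps.mem_K hk)
    rw [T₀.rho_map (P := P) hk] at h3
    rwa [map_mul, map_mul, map_inv]
  have hzero : ∀ {a : G}, P.HasPar a 0 → P.HasPar (σ a) 0 := fun ha =>
    P.hasPar_zero_iff.2 (T₀.keeps.four (P.hasPar_zero_iff.1 ha))
  by_cases hu : u = 0
  · subst hu; exact hzero he
  obtain ⟨w, hw⟩ := P.exists_par (T₀.keeps.mem_E he.mem)
  have hnz : ∃ v ∈ T, v ≠ 0 := by
    by_cases huw : u + w = 0
    · refine ⟨u, ⟨e, he, ?_⟩, hu⟩
      rwa [show u = w from (eq_neg_of_add_eq_zero_left huw).trans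
        (neg_eq_of_add_eq_zero_left (smul_add_self_zero hF w))]
    · refine ⟨u + w, ⟨e * σ e, he.mul hw, ?_⟩, huw⟩
      have h3 := he.conj hgK
      rw [hg1, one_apply] at h3
      rw [map_mul, hgx, add_comm u]
      exact hw.mul h3
  obtain ⟨v, hv, hv0'⟩ := hnz
  obtain ⟨e', h1, h2⟩ : u ∈ T := invariant_top T hinv hv hv0' ▸ AddSubgroup.mem_top u
  have h0 := h1.inv.mul he
  rw [smul_add_self_zero hF] at h0
  have h4 := h2.mul (hzero h0)
  rwa [add_zero, ← map_mul, mul_inv_cancel_left] at h4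

variable (A : P.Amb)

include A

/-- The subgroup is moved only by the diagonal element. -/
theorem Cfg.Triv.map_E_eq {e : G} (he : e ∈ P.E) : σ e = e ∨ σ e = e * (X.d * y) := by
  obtain ⟨s, hs⟩ := A.swap
  have hzE : ∀ {a : G}, a ∈ P.E → Commute a (X.d * y) := fun ha => P.z_comm (P.E_le ha)
  have hz2 := P.z_sq
  have hzmap := T₀.keeps.map_z
  have hdz : X.d * (X.d * y) = y := by rw [← mul_assoc, P.d_sq, one_mul]
  have hyz : y * (X.d * y) = X.d := by rw [P.commute.eq, ← mul_assoc, P.y_sq, one_mul]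
  have hzy : X.d * y * y = X.d := by rw [mul_assoc, P.y_sq, mul_one]
  have hzd : X.d * y * X.d = y := by rw [P.commute.eq, mul_assoc, P.d_sq, mul_one]
  have hfour : ∀ {a : G}, (a = X.d ∨ a = y) → σ a = a ∨ σ a = a * (X.d * y) := by
    rintro a (rfl | rfl) <;> rcases T₀.keeps with ⟨r, t⟩ | ⟨r, t⟩
    · exact Or.inl r
    · exact Or.inr (r.trans hdz.symm)
    · exact Or.inl t
    · exact Or.inr (t.trans hyz.symm)
  have hmul : ∀ {a b : G}, b ∈ P.E → (σ a = a ∨ σ a = a * (X.d * y)) →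
      (σ b = b ∨ σ b = b * (X.d * y)) → (σ (a * b) = a * b ∨ σ (a * b) = a * b * (X.d * y)) := by
    intro a b hb ha' hb'
    rw [map_mul]
    rcases ha' with r | r <;> rcases hb' with t | t <;> rw [r, t]
    · exact Or.inl rfl
    · exact Or.inr (by rw [mul_assoc])
    · exact Or.inr (by rw [mul_assoc, ← (hzE hb).eq, mul_assoc])
    · refine Or.inl ?_
      calc a * (X.d * y) * (b * (X.d * y)) = a * ((X.d * y) * b) * (X.d * y) := by group
        _ = a * (b * (X.d * y)) * (X.d * y) := by rw [(hzE hb).eq]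
        _ = a * b * (X.d * y * (X.d * y)) := by group
        _ = a * b := by rw [hz2, mul_one]
  have hzero : ∀ {a : G}, P.HasPar a 0 → (σ a = a ∨ σ a = a * (X.d * y)) := by
    intro a ha
    rcases P.hasPar_zero_iff.1 ha with rfl | rfl | rfl | rfl
    · exact Or.inl (map_one σ)
    · exact hfour (Or.inl rfl)
    · exact hfour (Or.inr rfl)
    · exact Or.inl hzmap
  have hshift : ∀ {e e' : G} {u : Fin 4 → F}, P.HasPar e u → P.HasPar e' u →
      (σ e = e ∨ σ e = e * (X.d * y)) → (σ e' = e' ∨ σ e' = e' * (X.d * y)) := by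
    intro e e' u h1 h2 h3
    have h0 := h1.inv.mul h2
    rw [smul_add_self_zero hF] at h0
    have h4 := hmul h0.mem h3 (hzero h0)
    rwa [mul_inv_cancel_left] at h4
  let T : AddSubgroup (Fin 4 → F) :=
    { carrier := {u | ∃ e, P.HasPar e u ∧ (σ e = e ∨ σ e = e * (X.d * y))}
      zero_mem' := ⟨1, P.hasPar_zero_iff.2 (Or.inl rfl), Or.inl (map_one σ)⟩
      add_mem' := by
        rintro a b ⟨e, h1, h2⟩ ⟨f, g1, g2⟩
        exact ⟨e * f, h1.mul g1, hmul g1.mem h2 g2⟩
      neg_mem' := by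
        rintro a ⟨e, h1, h2⟩
        refine ⟨e, ?_, h2⟩
        rwa [show -a = a from neg_eq_of_add_eq_zero_left (smul_add_self_zero hF a)] }
  have hinv : ∀ m : Unit' (𝓚), detHom (𝓚) m = 1 → ∀ u ∈ T, m.1 u ∈ T := by
    rintro m hm u ⟨e, h1, h2⟩
    obtain ⟨⟨k, hk⟩, rfl⟩ := (P.rho_range m).2 hm
    refine ⟨k * e * k⁻¹, h1.conj hk, ?_⟩
    have hf := T₀.triv k hk
    have hg := (h1.conj hk).mem
    rw [show σ (k * e * k⁻¹) = (σ k * k⁻¹) * (k * σ e * k⁻¹) * (σ k * k⁻¹)⁻¹ by
      rw [map_mul, map_mul, map_inv]; group]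
    generalize σ k * k⁻¹ = f at hf ⊢
    have e2 : f * (k * e * k⁻¹) * f⁻¹ = k * e * k⁻¹ ∨
        f * (k * e * k⁻¹) * f⁻¹ = k * e * k⁻¹ * (X.d * y) := by
      rcases P.comm_E hs hf hg with r | r
      · exact Or.inl (by rw [r, mul_inv_cancel_right])
      · refine Or.inr ?_
        rw [r, mul_assoc ((k * e * k⁻¹) * f), ← ((hzE hf).inv_left).eq, ← mul_assoc, mul_inv_cancel_right]
    have e3 : ∀ a : G, f * (k * (a * (X.d * y)) * k⁻¹) * f⁻¹ = f * (k * a * k⁻¹) * f⁻¹ * (X.d * y) := by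
      intro a
      calc f * (k * (a * (X.d * y)) * k⁻¹) * f⁻¹ = f * (k * a) * ((X.d * y) * k⁻¹) * f⁻¹ := by group
        _ = f * (k * a) * (k⁻¹ * (X.d * y)) * f⁻¹ := by rw [(P.z_comm hk).inv_left.eq]
        _ = f * (k * a * k⁻¹) * ((X.d * y) * f⁻¹) := by group
        _ = f * (k * a * k⁻¹) * (f⁻¹ * (X.d * y)) := by rw [(hzE hf).inv_left.eq]
        _ = _ := by group
    rcases h2 with r | r <;> rw [r]
    · exact e2
    · rw [e3]
      rcases e2 with t | t <;> rw [t]
      · exact Or.inr rfl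
      · exact Or.inl (by rw [mul_assoc, hz2, mul_one])
  have hnz : ∃ v ∈ T, v ≠ 0 := by
    by_contra hcon
    push Not at hcon
    let u1 : Fin 4 → F := ![1, 0, 0, 0]
    let u2 : Fin 4 → F := ![0, 1, 0, 0]
    have hu1 : u1 ≠ 0 := fun h => by simpa [u1] using congrFun h 0
    have hu2 : u2 ≠ 0 := fun h => by simpa [u2] using congrFun h 1
    have hu12 : u1 + u2 ≠ 0 := fun h => by simpa [u1, u2] using congrFun h 0
    have hout : ∀ u : Fin 4 → F, u ≠ 0 → ∀ a : G, P.HasPar a u → σ a = a * X.d ∨ σ a = a * y := by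
      intro u hu a ha
      have hna : ¬ (σ a = a ∨ σ a = a * (X.d * y)) := fun h2 => hu (hcon u ⟨a, ha, h2⟩)
      rcases P.same_par ha (T₀.par_fixed (P := P) hcen ha) with r | r | r | r
      · exact absurd (Or.inl r) hna
      · exact Or.inl r
      · exact Or.inr r
      · exact absurd (Or.inr r) hna
    obtain ⟨a, ha⟩ := P.exists_hasPar u1
    obtain ⟨b, hb⟩ := P.exists_hasPar u2
    refine hu12 (hcon (u1 + u2) ⟨a * b, ha.mul hb, ?_⟩)
    rw [map_mul]
    have hbd : Commute b X.d := P.commute_d (P.E_le hb.mem)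
    have hby : Commute b y := P.commute_y (P.E_le hb.mem)
    rcases hout u1 hu1 a ha with r | r <;> rcases hout u2 hu2 b hb with t | t <;> rw [r, t]
    · refine Or.inl ?_
      calc a * X.d * (b * X.d) = a * (X.d * b) * X.d := by group
        _ = a * (b * X.d) * X.d := by rw [hbd.eq]
        _ = a * b * (X.d * X.d) := by group
        _ = a * b := by rw [P.d_sq, mul_one]
    · refine Or.inr ?_
      calc a * X.d * (b * y) = a * (X.d * b) * y := by group
        _ = a * (b * X.d) * y := by rw [hbd.eq]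
        _ = a * b * (X.d * y) := by group
    · refine Or.inr ?_
      calc a * y * (b * X.d) = a * (y * b) * X.d := by group
        _ = a * (b * y) * X.d := by rw [hby.eq]
        _ = a * b * (y * X.d) := by group
        _ = a * b * (X.d * y) := by rw [P.commute.eq]
    · refine Or.inl ?_
      calc a * y * (b * y) = a * (y * b) * y := by group
        _ = a * (b * y) * y := by rw [hby.eq]
        _ = a * b * (y * y) := by group
        _ = a * b := by rw [P.y_sq, mul_one]
  obtain ⟨v, hv, hv0'⟩ := hnz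
  obtain ⟨u, hu⟩ := P.exists_par he
  obtain ⟨e', h1, h2⟩ : u ∈ T := invariant_top T hinv hv hv0' ▸ AddSubgroup.mem_top u
  exact hshift h1 hu h2

omit T₀ hcen

/-- An element with a prescribed pattern of commutators. -/
theorem Cfg.exists_correction (φ : G → G) (hφ : ∀ e ∈ P.E, φ e = e ∨ φ e = e * (X.d * y))
    (hmul : ∀ a b, φ (a * b) = φ a * φ b) (hV : φ X.d = X.d ∧ φ y = y) :
    ∃ f ∈ P.E, ∀ e ∈ P.E, φ e = f * e * f⁻¹ := by
  classical
  obtain ⟨s, hs⟩ := A.swap
  obtain ⟨ω, hω⟩ := exists_omega hF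
  have hzne : X.d * y ≠ 1 := fun h =>
    P.ne ((eq_inv_of_mul_eq_one_right h).trans (CfsgLib.ThreeTrans.inv_eq P.base.cls.1 P.base.mem))
  let b : Fin 4 × Bool → (Fin 4 → F) := fun p => Pi.single p.1 (if p.2 then ω else 1)
  choose bs hbs using fun p => P.exists_hasPar (b p)
  choose fs hfs using fun u => P.exists_hasPar u
  -- a subgroup containing the basis and the four is everything
  have hgen : ∀ H : Subgroup G, X.d ∈ H → y ∈ H → (∀ p, bs p ∈ H) → P.E ≤ H := by
    intro H hd hy hp e he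
    obtain ⟨u, hu⟩ := P.exists_par he
    let S : AddSubgroup (Fin 4 → F) :=
      { carrier := {u | ∃ e, P.HasPar e u ∧ e ∈ H}
        zero_mem' := ⟨1, P.hasPar_zero_iff.2 (Or.inl rfl), one_mem _⟩
        add_mem' := by
          rintro a c ⟨e, h1, h2⟩ ⟨f, g1, g2⟩
          exact ⟨e * f, h1.mul g1, mul_mem h2 g2⟩
        neg_mem' := by
          rintro a ⟨e, h1, h2⟩
          refine ⟨e, ?_, h2⟩
          rwa [show -a = a from neg_eq_of_add_eq_zero_left (smul_add_self_zero hF a)] }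
    have hS : ∀ p, b p ∈ S := fun p => ⟨bs p, hbs p, hp p⟩
    have hall : ∀ (i : Fin 4) (a : F), Pi.single i a ∈ S := by
      intro i a
      have hbasic : a = 0 ∨ a = 1 ∨ a = ω ∨ a = ω + 1 := by
        by_cases h0 : a = 0
        · exact Or.inl h0
        refine Or.inr ?_
        have h3 := CfsgLib.UnitaryTransv.pow_three hF h0
        have hfac : (a - 1) * ((a - ω) * (a - (ω + 1))) = 0 := by
          linear_combination h3 - (a ^ 2 * ω + a ^ 2 - a * ω - 1) * two_eq_zero hF + (a - 1) * hω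
        rcases mul_eq_zero.1 hfac with r | r
        · exact Or.inl (sub_eq_zero.1 r)
        rcases mul_eq_zero.1 r with r | r
        · exact Or.inr (Or.inl (sub_eq_zero.1 r))
        · exact Or.inr (Or.inr (sub_eq_zero.1 r))
      rcases hbasic with r | r | r | r <;> rw [r]
      · rw [Pi.single_zero]; exact S.zero_mem
      · simpa [b] using hS (i, false)
      · simpa [b] using hS (i, true)
      · rw [Pi.single_add]; exact S.add_mem (by simpa [b] using hS (i, true)) (by simpa [b] using hS (i, false))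
    obtain ⟨e', h1, h2⟩ : u ∈ S := by
      rw [← Finset.univ_sum_single u]; exact S.sum_mem fun i _ => hall i _
    have h0 := h1.inv.mul hu
    rw [smul_add_self_zero hF] at h0
    have h4 : e'⁻¹ * e ∈ H := by
      rcases P.hasPar_zero_iff.1 h0 with r | r | r | r <;> rw [r]
      exacts [one_mem _, hd, hy, mul_mem hd hy]
    simpa using mul_mem h2 h4
  let Ψ : (Fin 4 → F) → (Fin 4 × Bool → Bool) := fun u p => decide (fs u * bs p = bs p * fs u)
  have hΨ : Function.Injective Ψ := by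
    intro u u' h
    have hbp : ∀ p, (fs u)⁻¹ * fs u' * bs p = bs p * ((fs u)⁻¹ * fs u') := by
      intro p
      have h1 := congrFun h p
      simp only [Ψ, decide_eq_decide] at h1
      have hzb := P.z_comm (P.E_le (hbs p).mem)
      by_cases hc : fs u * bs p = bs p * fs u
      · exact ((show Commute (fs u) (bs p) from hc).inv_left.mul_left (h1.1 hc)).eq
      · have c1 := (P.comm_E hs (hfs u).mem (hbs p).mem).resolve_left hc
        have c2 := (P.comm_E hs (hfs u').mem (hbs p).mem).resolve_left fun e => hc (h1.2 e)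
        calc (fs u)⁻¹ * fs u' * bs p = (fs u)⁻¹ * (fs u' * bs p) := by group
          _ = (fs u)⁻¹ * (bs p * fs u' * (X.d * y)) := by rw [c2]
          _ = (fs u)⁻¹ * (bs p * (fs u' * (X.d * y))) := by group
          _ = (fs u)⁻¹ * (bs p * ((X.d * y) * fs u')) := by rw [(P.z_comm (P.E_le (hfs u').mem)).eq]
          _ = (fs u)⁻¹ * (fs u * bs p) * (fs u)⁻¹ * fs u' := by
              rw [c1]
              calc (fs u)⁻¹ * (bs p * (X.d * y * fs u'))
                  = (fs u)⁻¹ * bs p * (X.d * y) * fs u' := by group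
                _ = (fs u)⁻¹ * bs p * (fs u * (X.d * y) * (fs u)⁻¹) * fs u' := by
                    rw [(P.z_comm (P.E_le (hfs u).mem)).eq, mul_inv_cancel_right]
                _ = _ := by group
          _ = bs p * ((fs u)⁻¹ * fs u') := by group
    have hmem := mul_mem (inv_mem (hfs u).mem) (hfs u').mem
    have hcent : P.E ≤ centralizer {(fs u)⁻¹ * fs u'} :=
      hgen _ (mem_centralizer_singleton_iff.2 (P.commute_d (P.E_le hmem)).eq.symm)
        (mem_centralizer_singleton_iff.2 (P.commute_y (P.E_le hmem)).eq.symm)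
        fun p => mem_centralizer_singleton_iff.2 (hbp p).symm
    have h0 := P.hasPar_zero_iff.2
      (P.center_E hmem fun f hf => (mem_centralizer_singleton_iff.1 (hcent hf)).symm)
    have h5 := ((hfs u).inv.mul (hfs u')).unique h0
    exact (eq_neg_of_add_eq_zero_left h5).trans (neg_eq_of_add_eq_zero_left (smul_add_self_zero hF u'))
  have hcard : Nat.card (Fin 4 → F) = Nat.card (Fin 4 × Bool → Bool) := by
    rw [Nat.card_fun, Nat.card_fun, Nat.card_prod, Nat.card_eq_fintype_card (α := F), hF,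
      Nat.card_eq_fintype_card (α := Bool), Fintype.card_bool, Nat.card_fin]
    norm_num
  obtain ⟨u, hu⟩ := ((Nat.bijective_iff_injective_and_card Ψ).2 ⟨hΨ, hcard⟩).2
    fun p => decide (φ (bs p) = bs p)
  refine ⟨fs u, (hfs u).mem, ?_⟩
  let H : Subgroup G :=
    { carrier := {e | φ e = fs u * e * (fs u)⁻¹}
      one_mem' := by
        show φ 1 = _
        have h1 := hmul 1 1
        rw [mul_one] at h1
        rw [mul_one, mul_inv_cancel]
        exact (mul_left_cancel (a := φ 1) (h1.symm.trans (mul_one _).symm))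
      mul_mem' := fun {a c} ha hc => by
        show φ (a * c) = _
        rw [hmul, show φ a = _ from ha, show φ c = _ from hc]; group
      inv_mem' := fun {a} ha => by
        show φ a⁻¹ = _
        have h1 := hmul 1 1
        rw [mul_one] at h1
        have h2 : φ a⁻¹ * φ a = 1 := by
          rw [← hmul, inv_mul_cancel]
          exact (mul_left_cancel (a := φ 1) (h1.symm.trans (mul_one _).symm))
        rw [eq_inv_of_mul_eq_one_left h2, show φ a = _ from ha]; group }
  refine fun e he => hgen H ?_ ?_ ?_ he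
  · show φ X.d = _
    rw [hV.1, (P.commute_d (P.E_le (hfs u).mem)).eq, mul_inv_cancel_right]
  · show φ y = _
    rw [hV.2, (P.commute_y (P.E_le (hfs u).mem)).eq, mul_inv_cancel_right]
  · intro p
    show φ (bs p) = _
    have h1 : fs u * bs p = bs p * fs u ↔ φ (bs p) = bs p := by simpa [Ψ] using congrFun hu p
    rcases P.comm_E hs (hfs u).mem (hbs p).mem with r | r
    · rw [h1.1 r, r, mul_inv_cancel_right]
    · have hne : φ (bs p) ≠ bs p := fun e => hzne (by
        have := (h1.2 e).symm.trans r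
        exact mul_left_cancel (this.symm.trans (mul_one _).symm))
      rw [(hφ _ (hbs p).mem).resolve_left hne, r, mul_assoc (bs p * fs u) (X.d * y),
        ← ((P.z_comm (P.E_le (hfs u).mem)).inv_left).eq, ← mul_assoc (bs p * fs u), mul_inv_cancel_right]

variable (hinner : ∀ τ : MulAut G, τ X.d = X.d → (∀ t ∈ link D X.d, τ t = t) → ∃ g, τ = MulAut.conj g)
  (hpres : ∀ τ : MulAut G, ∀ x ∈ D, τ x ∈ D)

include T₀ hcen hinner hpres

/-- Such an automorphism fixing the two members is inner. -/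
theorem Cfg.Triv.inner_of_fix (hd : σ X.d = X.d) (hy : σ y = y) : ∃ g, σ = MulAut.conj g := by
  obtain ⟨f₀, hf₀, hσE⟩ := P.exists_correction A (fun e => σ e) (fun e he => T₀.map_E_eq (P := P) hcen A he)
    (fun a b => map_mul σ a b) ⟨hd, hy⟩
  -- the corrected automorphism
  suffices h : ∀ τ : MulAut G, τ X.d = X.d → τ y = y → (∀ k ∈ P.K, τ k * k⁻¹ ∈ P.E) →
      (∀ e ∈ P.E, τ e = e) → ∃ g, τ = MulAut.conj g by
    obtain ⟨g, hg⟩ := h ((MulAut.conj f₀)⁻¹ * σ)
      (by simp [hd]; rw [mul_assoc, ← (P.commute_d (P.E_le hf₀)).eq, inv_mul_cancel_left])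
      (by simp [hy]; rw [mul_assoc, ← (P.commute_y (P.E_le hf₀)).eq, inv_mul_cancel_left])
      (fun k hk => by
        simp only [MulAut.mul_apply, MulAut.conj_inv_apply]
        rw [show f₀⁻¹ * σ k * f₀ * k⁻¹ = f₀⁻¹ * (σ k * k⁻¹) * (k * f₀ * k⁻¹) by group]
        exact mul_mem (mul_mem (inv_mem hf₀) (T₀.triv k hk)) (P.conj_mem_E hk hf₀))
      (fun e he => by
        simp only [MulAut.mul_apply, MulAut.conj_inv_apply]
        rw [hσE e he]; group)
    exact ⟨f₀ * g, by rw [map_mul, ← hg, mul_inv_cancel_left]⟩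
  clear hσE hd hy T₀
  intro τ hd hy htriv hE
  have hkeep : P.Keeps τ := Or.inl ⟨hd, hy⟩
  have hV : ∀ k ∈ P.K,
      τ k * k⁻¹ = 1 ∨ τ k * k⁻¹ = X.d ∨ τ k * k⁻¹ = y ∨ τ k * k⁻¹ = X.d * y := by
    intro k hk
    refine P.center_E (htriv k hk) fun f hf => ?_
    have hf' := P.conj_mem_E (inv_mem hk) hf
    rw [inv_inv] at hf'
    have h1 := hE _ hf'
    rw [map_mul, map_mul, map_inv, hE f hf] at h1
    calc τ k * k⁻¹ * f = τ k * (k⁻¹ * f * k) * k⁻¹ := by group
      _ = τ k * ((τ k)⁻¹ * f * τ k) * k⁻¹ := by rw [h1]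
      _ = f * (τ k * k⁻¹) := by group
  have hVc : ∀ k ∈ P.K, ∀ k' ∈ P.K, Commute (τ k * k⁻¹) k' := by
    intro k hk k' hk'
    rcases hV k hk with r | r | r | r <;> rw [r]
    exacts [Commute.one_left _, (P.commute_d hk').symm, (P.commute_y hk').symm, (P.z_comm hk').symm]
  -- the fixed elements
  let N : Subgroup P.K :=
    { carrier := {k | τ k = k}
      one_mem' := map_one τ
      mul_mem' := fun {a b} ha hb => by
        show τ ((a : G) * b) = _
        rw [map_mul, show τ (a : G) = a from ha, show τ (b : G) = b from hb]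
        rfl
      inv_mem' := fun {a} ha => by
        show τ (a : G)⁻¹ = _
        rw [map_inv, show τ (a : G) = a from ha]
        rfl }
  have hfixK : ∀ k : P.K, τ k = k := by
    haveI := P.isSimple_range
    have hcomm : ∀ a b : P.K, a * b * a⁻¹ * b⁻¹ ∈ N := by
      intro a b
      show τ ((a : G) * b * (a : G)⁻¹ * (b : G)⁻¹) = (a : G) * b * (a : G)⁻¹ * (b : G)⁻¹
      have ea : τ a = (τ a * (a : G)⁻¹) * a := by rw [inv_mul_cancel_right]
      have eb : τ b = (τ b * (b : G)⁻¹) * b := by rw [inv_mul_cancel_right]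
      rw [map_mul, map_mul, map_mul, map_inv, map_inv, ea, eb]
      generalize hp : τ (a : G) * (a : G)⁻¹ = p
      generalize hq : τ (b : G) * (b : G)⁻¹ = q
      have pa : Commute p (a : G) := hp ▸ hVc _ a.2 _ a.2
      have pb : Commute p (b : G) := hp ▸ hVc _ a.2 _ b.2
      have qa : Commute q (a : G) := hq ▸ hVc _ b.2 _ a.2
      have qb : Commute q (b : G) := hq ▸ hVc _ b.2 _ b.2
      have pq : Commute p q := hp ▸ hVc _ a.2 q (hq ▸ mul_mem (hkeep.mem_K b.2) (inv_mem b.2))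
      calc p * a * (q * b) * (p * (a : G))⁻¹ * (q * (b : G))⁻¹
          = p * (a * q) * b * (a : G)⁻¹ * p⁻¹ * (b : G)⁻¹ * q⁻¹ := by group
        _ = p * (q * a) * b * (a : G)⁻¹ * p⁻¹ * (b : G)⁻¹ * q⁻¹ := by rw [qa.eq]
        _ = (p * q) * (a * b * (a : G)⁻¹) * (p⁻¹ * (b : G)⁻¹) * q⁻¹ := by group
        _ = (p * q) * (a * b * (a : G)⁻¹) * ((b : G)⁻¹ * p⁻¹) * q⁻¹ := by rw [(pb.inv_inv).eq]
        _ = (p * q) * ((a * b * (a : G)⁻¹ * (b : G)⁻¹) * (q * p)⁻¹) := by group
        _ = (p * q) * ((q * p)⁻¹ * (a * b * (a : G)⁻¹ * (b : G)⁻¹)) := by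
            rw [((((qa.mul_right qb).mul_right qa.inv_right).mul_right qb.inv_right).mul_left
              (((pa.mul_right pb).mul_right pa.inv_right).mul_right pb.inv_right)).inv_left.eq]
        _ = _ := by rw [← pq.eq]; group
    haveI hN : N.Normal := ⟨fun n hn k => by
      have h1 := N.mul_mem (hcomm k n) hn
      rwa [inv_mul_cancel_right] at h1⟩
    rcases (hN.map P.rho.rangeRestrict P.rho.rangeRestrict_surjective).eq_bot_or_eq_top with h | h
    · exfalso
      obtain ⟨k, hk⟩ := P.exists_ne_one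
      refine hk (P.rho_one_of_commute (det_res hF _) fun m' hm' => ?_)
      obtain ⟨k', rfl⟩ := (P.rho_range m').2 hm'
      have h1 : P.rho.rangeRestrict (k' * k * k'⁻¹ * k⁻¹) ∈ N.map P.rho.rangeRestrict :=
        ⟨_, hcomm k' k, rfl⟩
      rw [h, mem_bot] at h1
      have h2 : P.rho (k' * k * k'⁻¹ * k⁻¹) = 1 := congrArg Subtype.val h1
      rw [map_mul, map_mul, map_mul, map_inv, map_inv, mul_inv_eq_one, mul_inv_eq_iff_eq_mul] at h2
      exact h2
    · intro k
      obtain ⟨n, hn, hnk⟩ : P.rho.rangeRestrict k ∈ N.map P.rho.rangeRestrict := h ▸ mem_top _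
      have hnk' : P.rho n = P.rho k := congrArg Subtype.val hnk
      have hE' : ((n⁻¹ * k : P.K) : G) ∈ P.E :=
        P.mem_E.2 ⟨(n⁻¹ * k : P.K).2, by
          show P.rho (n⁻¹ * k) = 1
          rw [map_mul, map_inv, hnk', inv_mul_cancel]⟩
      have h3 : n⁻¹ * k ∈ N := hE _ hE'
      have h4 := N.mul_mem hn h3
      rwa [mul_inv_cancel_left] at h4
  -- the standard member not commuting with the second
  obtain ⟨ω, hω⟩ := exists_omega hF
  let w₀ : Fin 6 → F := f0 + ω • v0
  have hphiw : ∀ c : F, phi (f0 + c • v0 : Fin 6 → F) = 1 := fun c => by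
    rw [phi_add, phi_smul, phi_f0, phi_v0 hF, mul_zero, add_zero]
  have hh : ∀ (c : F) (u : Fin 4 → F),
      (𝓗).h (f0 + c • v0 + em u) (f0 + c • v0 + em u) = 1 + c + c ^ 2 + (𝓚).h u u := by
    intro c u
    rw [h6, wp_add, wp_add, wp_smul, wp_f0, wp_v0, wp_em, smul_zero, add_zero, zero_add]
    simp [f0, v0, em, -stdHerm_h]
    linear_combination (c + c ^ 2 + c ^ 3) * two_eq_zero hF
  have hw₀ : (𝓗).h w₀ w₀ = 0 := by
    have h1 := hh ω 0
    rw [em_zero, add_zero, (𝓚).zero_left] at h1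
    linear_combination (exp := 1) h1 + hω
  have hw₀0 : w₀ ≠ 0 := fun h => one_ne_zero (show (1 : F) = 0 by
    rw [← hphiw ω, show (f0 + ω • v0 : Fin 6 → F) = 0 from h]; simp [phi])
  obtain ⟨m, hmD, hmd, Lm⟩ := P.exists_member hw₀ hw₀0
  have hτm : τ (m : G) ∈ centralizer ({X.d} : Set G) := by
    refine mem_centralizer_singleton_iff.2 ?_
    have h1 := (show Commute (m : G) X.d from mem_centralizer_singleton_iff.1 m.2).map τ
    rw [hd] at h1
    exact h1.eq
  let m' : ↥(centralizer ({X.d} : Set G)) := ⟨τ m, hτm⟩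
  obtain ⟨w, hw, hw0, Lw⟩ := P.base.exists_tv (c := m') (hpres τ _ hmD)
    (fun h => hmd (τ.injective (h.trans hd.symm)))
  -- isotropic vectors span
  have hspan : ∀ x : Fin 4 → F, (𝓚).h x (wp w) = 0 := by
    let u0 : Fin 4 → F := ![1, 1, 0, 0]
    have hu00 : (𝓚).h u0 u0 = 0 := by
      simp [u0, Cfsg.hermForm, Fin.sum_univ_four]
      linear_combination two_eq_zero hF
    have hu0 : u0 ≠ 0 := fun h => by simpa [u0] using congrFun h 0
    let S : AddSubgroup (Fin 4 → F) := AddSubgroup.closure {x | (𝓚).h x x = 0}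
    have hS : S = ⊤ := by
      refine invariant_top (hF := hF) S (fun g _ u hu => ?_) (AddSubgroup.subset_closure hu00) hu0
      induction hu using AddSubgroup.closure_induction with
      | mem x hx => exact AddSubgroup.subset_closure (show (𝓚).h (g.1 x) (g.1 x) = 0 by rw [unit_h]; exact hx)
      | zero => rw [map_zero]; exact S.zero_mem
      | add a b _ _ iha ihb => rw [map_add]; exact S.add_mem iha ihb
      | neg a _ iha => rw [map_neg]; exact S.neg_mem iha
    intro x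
    have hx : x ∈ S := hS ▸ AddSubgroup.mem_top x
    induction hx using AddSubgroup.closure_induction with
    | mem x hx =>
      by_cases hx0 : x = 0
      · rw [hx0, (𝓚).zero_left]
      have hxv : (𝓗).h (em x) (em x) = 0 := by rw [h6, wp_em, hx]; simp [em]
      have hxe : em x ≠ 0 := fun h => hx0 (by rw [← wp_em x, h]; funext i; fin_cases i <;> simp [wp])
      obtain ⟨p, hpD, -, Lp⟩ := P.exists_member hxv hxe
      have hxv0 : (𝓗).h (em x) v0 = 0 := by rw [h_v0, phi_em]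
      have hpK : (p : G) ∈ P.K := P.mem_K_of_L Lp (by
        rw [tv_apply, (𝓗).h_comm_zero hxv0, zero_smul, add_zero])
      have hw₀x : (𝓗).h w₀ (em x) = 0 := (𝓗).h_comm_zero (by
        rw [h6, wp_em]
        simp [w₀, em, f0, v0, wp, -stdHerm_h]
        exact (𝓚).h_comm_zero (by rw [show (![0, 0, 0, 0] : Fin 4 → F) = 0 by
          funext i; fin_cases i <;> rfl, (𝓚).zero_left]))
      have hc := P.base.commute_of_orth hmD Lp Lm hw₀x
      have hc' : Commute (p : G) (m : G) := congrArg Subtype.val hc.eq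
      have hc2 := hc'.map τ
      rw [show τ (p : G) = p from hfixK ⟨p, hpK⟩] at hc2
      have hcs : Commute p m' := Subtype.ext hc2.eq
      have e1 := Lw.conj Lp
      rw [tv_conj, show m' * p * m'⁻¹ = p from mul_inv_eq_iff_eq_mul.2 hcs.eq.symm] at e1
      obtain ⟨r, hr, e2⟩ := tv_eq_imp hF _ hxv (unit_ne_zero _ hxe)
        (e1.eq_of_invol Lp (tv_sq hF _ _) (tv_sq hF _ _)).symm
      rw [tv_apply] at e2
      by_contra hne
      have hne' : (𝓗).h (em x) w ≠ 0 := by rwa [h6, wp_em, show em x 0 = 0 from rfl, show em x 1 = 0 from rfl,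
        zero_mul, zero_mul, zero_add, zero_add]
      have e3 : w = ((((𝓗).h (em x) w)⁻¹) * (r - 1)) • em x := by
        rw [mul_smul, sub_smul, one_smul, ← e2, add_sub_cancel_left, smul_smul, inv_mul_cancel₀ hne', one_smul]
      refine hne ?_
      rw [e3, wp_smul, wp_em, (𝓚).smul_right, hx, mul_zero]
    | zero => rw [(𝓚).zero_left]
    | add a b _ _ iha ihb => rw [(𝓚).add_left, iha, ihb, add_zero]
    | neg a _ iha =>
      rw [show -a = a from neg_eq_of_add_eq_zero_left (smul_add_self_zero hF a), iha]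
  have hwp : wp w = 0 := (𝓚).nondeg _ fun z => (𝓚).h_comm_zero (hspan z)
  have hwdec : w = w 1 • v0 + phi w • f0 := by
    have := decomp hF w
    rwa [hwp, em_zero, add_zero] at this
  have hphi : phi w ≠ 0 := by
    intro h0
    rw [h0, zero_smul, add_zero] at hwdec
    have hw1 : w 1 ≠ 0 := fun h1 => hw0 (by rw [hwdec, h1, zero_smul])
    rw [tv_smul hF hw1 (hv0 hF) hw hwdec] at Lw
    have h5 : τ (m : G) = y := congrArg Subtype.val
      (P.base.eq_of_L (c := ⟨y, P.comm⟩) (c' := m') P.mem (hpres τ _ hmD) P.lift Lw)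
    have h6' : (m : G) = y := τ.injective (h5.trans hy.symm)
    rw [show m = ⟨y, P.comm⟩ from Subtype.ext h6'] at Lm
    obtain ⟨r, -, e2⟩ := tv_eq_imp hF hw₀ (hv0 hF) hw₀0 (Lm.eq_of_invol P.lift (tv_sq hF _ _) (tv_sq hF _ _)).symm
    have := congrArg phi e2
    rw [hphiw, phi_smul, phi_v0 hF, mul_zero] at this
    exact one_ne_zero this
  set c := (phi w)⁻¹ * w 1 with hc
  have hwc : w = phi w • (f0 + c • v0) := by
    rw [smul_add, smul_smul, hc, ← mul_assoc, mul_inv_cancel₀ hphi, one_mul, add_comm]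
    exact hwdec
  have hc0 : (𝓗).h (f0 + c • v0) (f0 + c • v0) = 0 := by
    have h1 := hw
    rw [hwc, (𝓗).smul_left, (𝓗).smul_right, stdHerm_conj, ← mul_assoc] at h1
    refine (mul_eq_zero.1 h1).resolve_left ?_
    rw [← pow_succ', CfsgLib.UnitaryTransv.pow_three hF hphi]
    exact one_ne_zero
  rw [tv_smul hF hphi hc0 hw hwc] at Lw
  have hcases : c = ω ∨ c = ω + 1 := by
    have h1 := hh c 0
    rw [em_zero, add_zero, hc0, (𝓚).zero_left, add_zero] at h1
    have : (c - ω) * (c - (ω + 1)) = 0 := by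
      linear_combination -h1 - c * (ω + 1) * two_eq_zero hF + hω - two_eq_zero hF
    rcases mul_eq_zero.1 this with r | r
    · exact Or.inl (sub_eq_zero.1 r)
    · exact Or.inr (sub_eq_zero.1 r)
  let yC : ↥(centralizer ({X.d} : Set G)) := ⟨y, P.comm⟩
  have hm' : τ (m : G) = m ∨ τ (m : G) = y * m * y⁻¹ := by
    rcases hcases with r | r
    · refine Or.inl (congrArg Subtype.val (P.base.eq_of_L (c := m) (c' := m') hmD (hpres τ _ hmD) Lm ?_))
      rw [tv_congr hF _ hw₀ (show f0 + c • v0 = w₀ by rw [r])] at Lw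
      exact Lw
    · refine Or.inr (congrArg Subtype.val (P.base.eq_of_L (c := yC * m * yC⁻¹) (c' := m')
        ((CfsgLib.ThreeTransp.class_to_group P.base.cls).2.1 y _ hmD) (hpres τ _ hmD) ?_ Lw))
      have h1 := P.lift.conj Lm
      rw [tv_conj] at h1
      rwa [tv_congr hF _ hc0 (show (tv hF v0 (hv0 hF)).1 w₀ = f0 + c • v0 by
        rw [tv_apply, h_v0, hphiw, one_smul, r, add_smul, one_smul, add_assoc])] at h1
  -- an automorphism fixing the joint centraliser and the member fixes the link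
  suffices hlast : ∀ ρ : MulAut G, (∀ k ∈ P.K, ρ k = k) → ρ (m : G) = m → ∃ g, ρ = MulAut.conj g by
    rcases hm' with r | r
    · exact hlast τ (fun k hk => hfixK ⟨k, hk⟩) r
    · obtain ⟨g, hg⟩ := hlast ((MulAut.conj y)⁻¹ * τ) (fun k hk => by
        simp only [MulAut.mul_apply, MulAut.conj_inv_apply]
        rw [show τ k = k from hfixK ⟨k, hk⟩, mul_assoc, (P.commute_y hk).eq, inv_mul_cancel_left])
        (by simp only [MulAut.mul_apply, MulAut.conj_inv_apply]; rw [r]; group)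
      exact ⟨y * g, by rw [map_mul, ← hg, mul_inv_cancel_left]⟩
  intro ρ hK hm
  refine hinner ρ (hK _ P.d_mem_K) fun t ht => ?_
  let tC : ↥(centralizer ({X.d} : Set G)) := ⟨t, mem_centralizer_singleton_iff.2 ht.2.2.symm.eq⟩
  obtain ⟨v, hv, hv0', Lt⟩ := P.base.exists_tv (c := tC) ht.1 ht.2.1
  by_cases hp : phi v = 0
  · refine hK t (P.mem_K_of_L (c := tC) Lt ?_)
    rw [tv_apply, (𝓗).h_comm_zero (show (𝓗).h v v0 = 0 by rw [h_v0]; exact hp), zero_smul, add_zero]
  have hdec := decomp hF v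
  set a := phi v with ha
  set c₁ := a⁻¹ * v 1
  set u := a⁻¹ • wp v
  have hv1 : v = a • (f0 + c₁ • v0 + em u) := by
    rw [smul_add, smul_add, smul_smul, ← em_smul, smul_smul, ← mul_assoc, mul_inv_cancel₀ hp, one_mul,
      one_smul]
    conv_lhs => rw [hdec]
    abel
  have hiso : (𝓗).h (f0 + c₁ • v0 + em u) (f0 + c₁ • v0 + em u) = 0 := by
    have h1 := hv
    rw [hv1, (𝓗).smul_left, (𝓗).smul_right, stdHerm_conj, ← mul_assoc] at h1
    refine (mul_eq_zero.1 h1).resolve_left ?_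
    rw [← pow_succ', CfsgLib.UnitaryTransv.pow_three hF hp]
    exact one_ne_zero
  have hq : QCond hF u (c₁ + ω) := by
    have h1 := hh c₁ u
    rw [hiso] at h1
    unfold QCond
    linear_combination -h1 + hω + (c₁ * ω - 1 - (𝓚).h u u) * two_eq_zero hF
  obtain ⟨e, he⟩ := X.D.exists_lift (det_qel hF u _ hq)
  have heK : (e : G) ∈ P.K := P.mem_K_of_L he (qel_v0 hF u _ hq)
  have hval : (qel hF u (c₁ + ω) hq).1 w₀ = f0 + c₁ • v0 + em u := by
    rw [qel_apply, qFun, hphiw, one_mul, one_smul]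
    simp [w₀, -stdHerm_h, (𝓚).zero_left]
    funext i
    simp
    linear_combination ω * v0 i * two_eq_zero hF
  have h2 := he.conj Lm
  rw [tv_conj, tv_congr hF _ hiso hval] at h2
  rw [tv_smul hF hp hiso hv hv1] at Lt
  have h3 : t = (e : G) * m * (e : G)⁻¹ := congrArg Subtype.val
    (P.base.eq_of_L (c := e * m * e⁻¹) (c' := tC)
      ((CfsgLib.ThreeTransp.class_to_group P.base.cls).2.1 (e : G) _ hmD) ht.1 h2 Lt)
  rw [h3, map_mul, map_mul, map_inv, hK _ heK, hm]

end CfsgLib.FischerThompson
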