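import Cfsg.Agent.Lib.FischerThompson.Members

/-!
Five members commuting with one and multiplying to it are transvections of one line: an element fixing three of
them fixes the others.
-/

set_option autoImplicit false
set_option linter.unusedSectionVars false

namespace CfsgLib.FischerThompson

open Subgroup Module CfsgLib.Classical.Herm HermSpace CfsgLib.UnitaryTransv CfsgLib.U6Cover

variable {F : Type*} [Field F] [Fintype F] {hF : Fintype.card F = 2 ^ 2}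
  {G : Type*} [Group G] [Finite G] {D : Set G} {X : Ctx hF G}

local notation "𝓗" => stdHerm hF 6

theorem orth_of_commute {a b : Fin 6 → F} (ha : (𝓗).h a a = 0) (hb : (𝓗).h b b = 0) (hb0 : b ≠ 0)
    (hind : ∀ c : F, a ≠ c • b) (h : tv hF a ha * tv hF b hb = tv hF b hb * tv hF a ha) :
    (𝓗).h b a = 0 := by
  have h1 : tv hF a ha * tv hF b hb * (tv hF a ha)⁻¹ = tv hF b hb := by rw [h, mul_inv_cancel_right]
  rw [tv_conj] at h1
  obtain ⟨c, -, hc⟩ := tv_eq_imp hF _ hb (unit_ne_zero _ hb0) h1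
  rw [tv_apply] at hc
  by_contra h0
  refine hind (((𝓗).h b a)⁻¹ * (c - 1)) ?_
  rw [mul_smul, sub_smul, one_smul, ← hc, add_sub_cancel_left, smul_smul, inv_mul_cancel₀ h0, one_smul]

/-- The line argument. -/
theorem line_fixed {a b p q r : Fin 6 → F} (hsum : ∀ z,
      (𝓗).h z a • a + (𝓗).h z b • b + (𝓗).h z p • p + (𝓗).h z q • q + (𝓗).h z r • r = 0)
    (hab : ∀ c : F, a ≠ c • b) (_hba : ∀ c : F, b ≠ c • a) (hpq : ∀ c : F, p ≠ c • q) (hqp : ∀ c : F, q ≠ c • p)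
    (hpb : ∀ c : F, p ≠ c • b) (_hpr : ∀ c : F, p ≠ c • r) (hrp : ∀ c : F, r ≠ c • p) (hrq : ∀ c : F, r ≠ c • q)
    (_hqr : ∀ c : F, q ≠ c • r)
    (K : (Fin 6 → F) →ₗ[F] (Fin 6 → F)) {μ ν ρ : F} (hp : K p = μ • p) (hq : K q = ν • q) (hr : K r = ρ • r) :
    K a = μ • a := by
  have hA : ∃ x y w : F, a = x • p + y • q + w • r := by
    obtain ⟨z, hz1, hz2⟩ := exists_h_sep hF a (Submodule.span F {b}) (fun h => by
      obtain ⟨c, hc⟩ := Submodule.mem_span_singleton.1 h; exact hab c hc.symm)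
    have e := hsum z
    rw [hz1, hz2 b (Submodule.mem_span_singleton_self b), one_smul, zero_smul, add_zero] at e
    refine ⟨-(𝓗).h z p, -(𝓗).h z q, -(𝓗).h z r, ?_⟩
    rw [← sub_eq_zero, ← e]; module
  have hB : ∀ u v w : Fin 6 → F, (∀ z, (𝓗).h z a • a + (𝓗).h z b • b + (𝓗).h z u • u + (𝓗).h z v • v +
      (𝓗).h z w • w = 0) → (∃ x y : F, u = x • v + y • w) ∨ ∃ x y : F, u = x • a + y • b := by
    intro u v w hs
    by_cases hu : u ∈ Submodule.span F {v, w}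
    · obtain ⟨x, y, h⟩ := Submodule.mem_span_pair.1 hu; exact Or.inl ⟨x, y, h.symm⟩
    · obtain ⟨z, hz1, hz2⟩ := exists_h_sep hF u _ hu
      have e := hs z
      rw [hz1, hz2 v (Submodule.subset_span (by simp)), hz2 w (Submodule.subset_span (by simp)), one_smul,
        zero_smul, zero_smul, add_zero, add_zero] at e
      refine Or.inr ⟨-(𝓗).h z a, -(𝓗).h z b, ?_⟩
      rw [← sub_eq_zero, ← e]; module
  have hR : ∃ x y : F, r = x • p + y • q := by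
    rcases hB p q r hsum with ⟨x, y, h⟩ | ⟨x₁, y₁, h₁⟩
    · have hy : y ≠ 0 := fun h0 => hpq x (by rw [h, h0, zero_smul, add_zero])
      refine ⟨y⁻¹, -(y⁻¹ * x), ?_⟩
      rw [h, smul_add, smul_smul, smul_smul, inv_mul_cancel₀ hy, one_smul, neg_smul]; abel
    rcases hB q p r (fun z => by rw [← hsum z]; abel) with ⟨x, y, h⟩ | ⟨x₂, y₂, h₂⟩
    · have hy : y ≠ 0 := fun h0 => hqp x (by rw [h, h0, zero_smul, add_zero])
      refine ⟨-(y⁻¹ * x), y⁻¹, ?_⟩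
      rw [h, smul_add, smul_smul, smul_smul, inv_mul_cancel₀ hy, one_smul, neg_smul]; abel
    rcases hB r p q (fun z => by rw [← hsum z]; abel) with h | ⟨x₃, y₃, h₃⟩
    · exact h
    have hd : x₁ * y₂ - x₂ * y₁ ≠ 0 := by
      intro hd
      have e : x₂ • p - x₁ • q = 0 := by
        rw [h₁, h₂, show x₂ • (x₁ • a + y₁ • b) - x₁ • (x₂ • a + y₂ • b) =
          (-(x₁ * y₂ - x₂ * y₁)) • b by module, hd, neg_zero, zero_smul]
      by_cases hx : x₁ = 0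
      · exact hpb y₁ (by rw [h₁, hx, zero_smul, zero_add])
      · refine hqp (x₁⁻¹ * x₂) ?_
        rw [mul_smul, sub_eq_zero.1 e, smul_smul, inv_mul_cancel₀ hx, one_smul]
    set d := (x₁ * y₂ - x₂ * y₁)⁻¹
    refine ⟨d * (x₃ * y₂ - x₂ * y₃), d * (x₁ * y₃ - x₃ * y₁), ?_⟩
    rw [h₁, h₂, h₃]
    have e1 : d * (x₁ * y₂ - x₂ * y₁) = 1 := inv_mul_cancel₀ hd
    match_scalars
    · linear_combination (-x₃) * e1
    · linear_combination (-y₃) * e1
  obtain ⟨x, y, hrxy⟩ := hR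
  have hx : x ≠ 0 := fun h0 => hrq y (by rw [hrxy, h0, zero_smul, zero_add])
  have hy : y ≠ 0 := fun h0 => hrp x (by rw [hrxy, h0, zero_smul, add_zero])
  have e1 : (x * (μ - ρ)) • p + (y * (ν - ρ)) • q = 0 := by
    have h := hr
    rw [hrxy, map_add, map_smul, map_smul, hp, hq] at h
    rw [← sub_eq_zero.2 h]; module
  have hy0 : y * (ν - ρ) = 0 := by
    by_contra h0
    refine hqp (-((y * (ν - ρ))⁻¹ * (x * (μ - ρ)))) ?_
    have e2 := congrArg (fun v => (y * (ν - ρ))⁻¹ • v) e1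
    simp only [smul_add, smul_smul, inv_mul_cancel₀ h0, one_smul, smul_zero] at e2
    rw [eq_neg_of_add_eq_zero_right e2, neg_smul]
  have hνρ : ν = ρ := sub_eq_zero.1 ((mul_eq_zero.1 hy0).resolve_left hy)
  have hμρ : μ = ρ := by
    rw [hy0, zero_smul, add_zero] at e1
    rcases smul_eq_zero.1 e1 with h | h
    · exact sub_eq_zero.1 ((mul_eq_zero.1 h).resolve_left hx)
    · exact absurd (by rw [h, zero_smul]) (hpq 0)
  obtain ⟨s, t, w, ha⟩ := hA
  rw [ha, hrxy, map_add, map_add, map_smul, map_smul, map_smul, map_add, map_smul, map_smul, hp, hq, hνρ,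
    ← hμρ]
  module

/-- An element fixing three of five members multiplying to the central one fixes the others. -/
theorem Base.hexad (B : Base hF D X) (a b p q r k : ↥(centralizer ({X.d} : Set G)))
    (hmem : ∀ s ∈ [a, b, p, q, r], (s : G) ∈ D ∧ (s : G) ≠ X.d) (hnd : [a, b, p, q, r].Nodup)
    (hcomm : ∀ s ∈ [a, b, p, q, r], ∀ t ∈ [a, b, p, q, r], Commute s t)
    (hprod : a * b * p * q * r = X.D.z) (hp : k * p * k⁻¹ = p) (hq : k * q * k⁻¹ = q) (hr : k * r * k⁻¹ = r) :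
    k * a * k⁻¹ ≠ b := by
  intro hk
  simp only [List.nodup_cons, List.mem_cons, List.not_mem_nil, or_false, List.nodup_nil, not_false_iff,
    and_true, not_or] at hnd
  obtain ⟨⟨hab, hap, haq, har⟩, ⟨hbp, hbq, hbr⟩, ⟨hpq, hpr⟩, hqr⟩ := hnd
  have hv : ∀ s ∈ [a, b, p, q, r], ∃ (v : Fin 6 → F) (hv : (𝓗).h v v = 0), v ≠ 0 ∧ X.D.L s (tv hF v hv) :=
    fun s hs => B.exists_tv (hmem s hs).1 (hmem s hs).2
  obtain ⟨va, ha1, ha0, La⟩ := hv a (by simp)
  obtain ⟨vb, hb1, hb0, Lb⟩ := hv b (by simp)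
  obtain ⟨vp, hp1, hp0, Lp⟩ := hv p (by simp)
  obtain ⟨vq, hq1, hq0, Lq⟩ := hv q (by simp)
  obtain ⟨vr, hr1, hr0, Lr⟩ := hv r (by simp)
  have hind : ∀ {s t : ↥(centralizer ({X.d} : Set G))} {v w : Fin 6 → F} {h1 : (𝓗).h v v = 0}
      {h2 : (𝓗).h w w = 0}, s ∈ [a, b, p, q, r] → t ∈ [a, b, p, q, r] → s ≠ t → v ≠ 0 →
      X.D.L s (tv hF v h1) → X.D.L t (tv hF w h2) → ∀ c : F, v ≠ c • w := by
    intro s t v w h1 h2 hs ht hne hv0 Ls Lt c hc
    have hc0 : c ≠ 0 := fun h0 => hv0 (by rw [hc, h0, zero_smul])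
    rw [tv_smul hF hc0 h2 h1 hc] at Ls
    exact hne (B.eq_of_L (hmem t ht).1 (hmem s hs).1 Lt Ls)
  have ma : a ∈ [a, b, p, q, r] := by simp
  have mb : b ∈ [a, b, p, q, r] := by simp
  have mp : p ∈ [a, b, p, q, r] := by simp
  have mq : q ∈ [a, b, p, q, r] := by simp
  have mr : r ∈ [a, b, p, q, r] := by simp
  have horth : ∀ {s t : ↥(centralizer ({X.d} : Set G))} {v w : Fin 6 → F} {h1 : (𝓗).h v v = 0}
      {h2 : (𝓗).h w w = 0}, s ∈ [a, b, p, q, r] → t ∈ [a, b, p, q, r] → s ≠ t → v ≠ 0 → w ≠ 0 →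
      X.D.L s (tv hF v h1) → X.D.L t (tv hF w h2) → (𝓗).h w v = 0 := by
    intro s t v w h1 h2 hs ht hne hv0 hw0 Ls Lt
    refine orth_of_commute h1 h2 hw0 (hind hs ht hne hv0 Ls Lt) ?_
    have hL1 : X.D.L t (tv hF v h1 * tv hF w h2 * (tv hF v h1)⁻¹) := by
      have := Ls.conj Lt
      rwa [(hcomm s hs t ht).eq, mul_inv_cancel_right] at this
    have e := Lt.eq_of_invol hL1 (tv_sq hF _ _) (by rw [tv_conj]; exact tv_sq hF _ _)
    rw [← mul_inv_eq_iff_eq_mul, e]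
  have o1 := horth ma mb hab ha0 hb0 La Lb
  have o2 := horth ma mp hap ha0 hp0 La Lp
  have o3 := horth ma mq haq ha0 hq0 La Lq
  have o4 := horth ma mr har ha0 hr0 La Lr
  have o5 := horth mb mp hbp hb0 hp0 Lb Lp
  have o6 := horth mb mq hbq hb0 hq0 Lb Lq
  have o7 := horth mb mr hbr hb0 hr0 Lb Lr
  have o8 := horth mp mq hpq hp0 hq0 Lp Lq
  have o9 := horth mp mr hpr hp0 hr0 Lp Lr
  have o10 := horth mq mr hqr hq0 hr0 Lq Lr
  set P5 := tv hF va ha1 * tv hF vb hb1 * tv hF vp hp1 * tv hF vq hq1 * tv hF vr hr1 with hP5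
  have happ : ∀ z, P5.1 z = z + (𝓗).h z va • va + (𝓗).h z vb • vb + (𝓗).h z vp • vp + (𝓗).h z vq • vq +
      (𝓗).h z vr • vr := by
    intro z
    simp only [hP5, CfsgLib.Classical.Herm.mul_apply, tv_apply, (𝓗).add_left, (𝓗).smul_left, o1, o2, o3, o4, o5,
      o6, o7, o8, o9, o10, mul_zero, add_zero]
    abel
  have hsq : P5 * P5 = 1 := unit_ext fun z => by
    rw [CfsgLib.Classical.Herm.mul_apply, happ (P5.1 z), one_apply]
    simp only [happ z, (𝓗).add_left, (𝓗).smul_left, ha1, hb1, hp1, hq1, hr1, o1, o2, o3, o4, o5, o6, o7, o8, o9, o10,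
      (𝓗).h_comm_zero o1, (𝓗).h_comm_zero o2, (𝓗).h_comm_zero o3, (𝓗).h_comm_zero o4, (𝓗).h_comm_zero o5,
      (𝓗).h_comm_zero o6, (𝓗).h_comm_zero o7, (𝓗).h_comm_zero o8, (𝓗).h_comm_zero o9, (𝓗).h_comm_zero o10,
      mul_zero, add_zero]
    have h2 := two_eq_zero hF
    match_scalars <;> grind
  have hL5 : X.D.L X.D.z P5 := by
    rw [← hprod]; exact (((La.mul Lb).mul Lp).mul Lq).mul Lr
  have hone : (1 : Unit' (𝓗)) = P5 := hL5.eq_of_invol X.D.L_z hsq (one_mul 1)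
  have hsum : ∀ z, (𝓗).h z va • va + (𝓗).h z vb • vb + (𝓗).h z vp • vp + (𝓗).h z vq • vq +
      (𝓗).h z vr • vr = 0 := by
    intro z
    have h := happ z
    rw [← hone, one_apply] at h
    rw [← sub_eq_zero.2 h.symm]
    abel
  obtain ⟨kk, hkk⟩ := X.D.exists_L k
  obtain ⟨μ, -, hμ⟩ := B.conj_L hkk Lp (by rw [hp]; exact Lp) hp0
  obtain ⟨ν, -, hν⟩ := B.conj_L hkk Lq (by rw [hq]; exact Lq) hq0
  obtain ⟨ρ, -, hρ⟩ := B.conj_L hkk Lr (by rw [hr]; exact Lr) hr0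
  obtain ⟨σ, hσ0, hσ⟩ := B.conj_L hkk La (by rw [hk]; exact Lb) ha0
  have := line_fixed hsum (hind ma mb hab ha0 La Lb) (hind mb ma (Ne.symm hab) hb0 Lb La)
    (hind mp mq hpq hp0 Lp Lq) (hind mq mp (Ne.symm hpq) hq0 Lq Lp) (hind mp mb (Ne.symm hbp) hp0 Lp Lb)
    (hind mp mr hpr hp0 Lp Lr) (hind mr mp (Ne.symm hpr) hr0 Lr Lp) (hind mr mq (Ne.symm hqr) hr0 Lr Lq)
    (hind mq mr hqr hq0 Lq Lr) (kk.1 : (Fin 6 → F) →ₗ[F] (Fin 6 → F)) hμ hν hρ
  change kk.1 va = μ • va at this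
  rw [hσ] at this
  refine hind mb ma (Ne.symm hab) hb0 Lb La (σ⁻¹ * μ) ?_
  rw [mul_smul, ← this, smul_smul, inv_mul_cancel₀ hσ0, one_smul]

end CfsgLib.FischerThompson
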