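import Cfsg.Agent.Lib.FischerThompson.PairSwap
import Cfsg.Agent.Lib.FischerThompson.Hexad

/-!
An element interchanging the two members does not centralise the joint centraliser modulo its subgroup of
order `2 ^ 10`.
-/

set_option autoImplicit false
set_option linter.unusedSectionVars false

namespace CfsgLib.FischerThompson

open Subgroup Module CfsgLib.Classical.Herm HermSpace CfsgLib.UnitaryTransv CfsgLib.U6Cover

variable {F : Type*} [Field F] [Fintype F] {hF : Fintype.card F = 2 ^ 2}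
  {G : Type*} [Group G] [Finite G] {D : Set G} {X : Ctx hF G}

local notation "𝓗" => stdHerm hF 6
local notation "𝓚" => stdHerm hF 4

/-- Members over orthogonal transvections commute. -/
theorem Base.commute_of_orth (B : Base hF D X) {s t : ↥(centralizer ({X.d} : Set G))} {a b : Fin 6 → F}
    {ha : (𝓗).h a a = 0} {hb : (𝓗).h b b = 0} (htD : (t : G) ∈ D) (Ls : X.D.L s (tv hF a ha))
    (Lt : X.D.L t (tv hF b hb)) (h : (𝓗).h b a = 0) : Commute s t := by
  have h1 := Ls.conj Lt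
  rw [tv_conj, tv_congr hF _ hb (show (tv hF a ha).1 b = b by rw [tv_apply, h, zero_smul, add_zero])] at h1
  have h2 := B.eq_of_L (c' := s * t * s⁻¹) htD
    ((CfsgLib.ThreeTransp.class_to_group B.cls).2.1 (s : G) _ htD) Lt h1
  exact mul_inv_eq_iff_eq_mul.1 h2

variable {y : G} (P : Cfg hF D X y)

include P

/-- A member over any isotropic vector. -/
theorem Cfg.exists_member {v : Fin 6 → F} (hv : (𝓗).h v v = 0) (hv0' : v ≠ 0) :
    ∃ c : ↥(centralizer ({X.d} : Set G)), (c : G) ∈ D ∧ (c : G) ≠ X.d ∧ X.D.L c (tv hF v hv) := by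
  obtain ⟨k, hk, hkv⟩ := rootGen_transitive (big_std hF (n := 6) (by norm_num)) (hv0 hF) v0_ne_zero hv hv0'
  obtain ⟨g, hg⟩ := X.D.exists_lift (MonoidHom.mem_ker.1 (rootGen_le_ker_det hk))
  refine ⟨g * ⟨y, P.comm⟩ * g⁻¹, (CfsgLib.ThreeTransp.class_to_group P.base.cls).2.1 (g : G) y P.mem,
    fun h => P.ne ?_, ?_⟩
  · have h' : (g : G) * y * (g : G)⁻¹ = X.d := h
    calc y = (g : G)⁻¹ * ((g : G) * y * (g : G)⁻¹) * g := by group
      _ = (g : G)⁻¹ * (X.d * g) := by rw [h', mul_assoc]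
      _ = X.d := by rw [← (mem_centralizer_singleton_iff.1 g.2), inv_mul_cancel_left]
  · have h1 := hg.conj P.lift
    rw [tv_conj] at h1
    rwa [tv_congr hF _ hv hkv] at h1

/-- Elements of equal parameter differ by one of four. -/
theorem Cfg.same_par {e e' : G} {u : Fin 4 → F} (h : P.HasPar e u) (h' : P.HasPar e' u) :
    e' = e ∨ e' = e * X.d ∨ e' = e * y ∨ e' = e * (X.d * y) := by
  have h0 := h.inv.mul h'
  rw [smul_add_self_zero hF] at h0
  rcases P.hasPar_zero_iff.1 h0 with r | r | r | r <;> rw [inv_mul_eq_iff_eq_mul] at r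
  · exact Or.inl (r.trans (mul_one e))
  · exact Or.inr (Or.inl r)
  · exact Or.inr (Or.inr (Or.inl r))
  · exact Or.inr (Or.inr (Or.inr r))

/-- Such an element fixes the parameters. -/
theorem Cfg.par_fixed {c : G} (hc : P.Swaps c) (h : ∀ k ∈ P.K, c * k * c⁻¹ * k⁻¹ ∈ P.E) {e : G}
    {u : Fin 4 → F} (he : P.HasPar e u) : P.HasPar (c * e * c⁻¹) u := by
  have hrho : ∀ (k : G) (hk : k ∈ P.K), P.rho ⟨c * k * c⁻¹, hc.conj_mem_K hk⟩ = P.rho ⟨k, hk⟩ := by
    intro k hk
    obtain ⟨hm, h1⟩ := P.mem_E.1 (h k hk)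
    have e1 : (⟨c * k * c⁻¹, hc.conj_mem_K hk⟩ : P.K) = ⟨c * k * c⁻¹ * k⁻¹, hm⟩ * ⟨k, hk⟩ :=
      Subtype.ext (show c * k * c⁻¹ = c * k * c⁻¹ * k⁻¹ * k by rw [inv_mul_cancel_right])
    rw [e1, map_mul, h1, one_mul]
  have hcc : c * c ∈ P.K := by
    refine ⟨mem_centralizer_singleton_iff.2 (mul_inv_eq_iff_eq_mul.1 ?_),
      mem_centralizer_singleton_iff.2 (mul_inv_eq_iff_eq_mul.1 ?_)⟩
    · calc c * c * X.d * (c * c)⁻¹ = c * (c * X.d * c⁻¹) * c⁻¹ := by group
        _ = X.d := by rw [hc.1, hc.2]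
    · calc c * c * y * (c * c)⁻¹ = c * (c * y * c⁻¹) * c⁻¹ := by group
        _ = y := by rw [hc.2, hc.1]
  have hcc1 : P.rho ⟨c * c, hcc⟩ = 1 := by
    refine P.rho_one_of_commute (det_res hF _) fun m' hm' => ?_
    obtain ⟨⟨k, hk⟩, rfl⟩ := (P.rho_range m').2 hm'
    have h1 := hrho _ (hc.conj_mem_K hk)
    rw [hrho k hk] at h1
    have e1 : (⟨c * c, hcc⟩ : P.K) * ⟨k, hk⟩ =
        ⟨c * (c * k * c⁻¹) * c⁻¹, hc.conj_mem_K (hc.conj_mem_K hk)⟩ * ⟨c * c, hcc⟩ :=
      Subtype.ext (show c * c * k = c * (c * k * c⁻¹) * c⁻¹ * (c * c) by group)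
    have e2 := congrArg P.rho e1
    rw [map_mul, map_mul, h1] at e2
    exact e2.symm
  let T : AddSubgroup (Fin 4 → F) :=
    { carrier := {u | ∃ e, P.HasPar e u ∧ P.HasPar (c * e * c⁻¹) u}
      zero_mem' := ⟨1, P.hasPar_zero_iff.2 (Or.inl rfl), P.hasPar_zero_iff.2 (Or.inl (by group))⟩
      add_mem' := by
        rintro a b ⟨e, h1, h2⟩ ⟨f, g1, g2⟩
        exact ⟨e * f, h1.mul g1, by
          rw [show c * (e * f) * c⁻¹ = (c * e * c⁻¹) * (c * f * c⁻¹) by group]; exact h2.mul g2⟩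
      neg_mem' := by
        rintro a ⟨e, h1, h2⟩
        refine ⟨e, ?_⟩
        rw [show -a = a from neg_eq_of_add_eq_zero_left (smul_add_self_zero hF a)]
        exact ⟨h1, h2⟩ }
  have hinv : ∀ m : Unit' (𝓚), detHom (𝓚) m = 1 → ∀ u ∈ T, m.1 u ∈ T := by
    rintro m hm u ⟨e, h1, h2⟩
    obtain ⟨⟨k, hk⟩, rfl⟩ := (P.rho_range m).2 hm
    refine ⟨k * e * k⁻¹, h1.conj hk, ?_⟩
    have h3 := h2.conj (hc.conj_mem_K hk)
    rw [hrho k hk] at h3
    rwa [show c * (k * e * k⁻¹) * c⁻¹ = c * k * c⁻¹ * (c * e * c⁻¹) * (c * k * c⁻¹)⁻¹ by group]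
  by_cases hu : u = 0
  · subst hu
    refine P.hasPar_zero_iff.2 ?_
    rcases P.hasPar_zero_iff.1 he with r | r | r | r <;> rw [r]
    · exact Or.inl (by group)
    · exact Or.inr (Or.inr (Or.inl hc.1))
    · exact Or.inr (Or.inl hc.2)
    · exact Or.inr (Or.inr (Or.inr hc.conj_z))
  obtain ⟨w, hw⟩ := P.exists_par (hc.conj_mem_E he.mem)
  have hnz : ∃ v ∈ T, v ≠ 0 := by
    by_cases huw : u + w = 0
    · refine ⟨u, ⟨e, he, ?_⟩, hu⟩
      rwa [show u = w from (eq_neg_of_add_eq_zero_left huw).trans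
        (neg_eq_of_add_eq_zero_left (smul_add_self_zero hF w))]
    · refine ⟨u + w, ⟨e * (c * e * c⁻¹), he.mul hw, ?_⟩, huw⟩
      have h3 := he.conj hcc
      rw [hcc1, one_apply] at h3
      rw [show c * (e * (c * e * c⁻¹)) * c⁻¹ = (c * e * c⁻¹) * (c * c * e * (c * c)⁻¹) by group, add_comm u]
      exact hw.mul h3
  obtain ⟨v, hv, hv0'⟩ := hnz
  have htop := invariant_top T hinv hv hv0'
  obtain ⟨e', h1, h2⟩ : u ∈ T := htop ▸ AddSubgroup.mem_top u
  have h0 := h1.inv.mul he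
  rw [smul_add_self_zero hF] at h0
  have h3 : P.HasPar (c * (e'⁻¹ * e) * c⁻¹) 0 := by
    refine P.hasPar_zero_iff.2 ?_
    rcases P.hasPar_zero_iff.1 h0 with r | r | r | r <;> rw [r]
    · exact Or.inl (by group)
    · exact Or.inr (Or.inr (Or.inl hc.1))
    · exact Or.inr (Or.inl hc.2)
    · exact Or.inr (Or.inr (Or.inr hc.conj_z))
  have h4 := h2.mul h3
  rw [add_zero] at h4
  rwa [show c * e' * c⁻¹ * (c * (e'⁻¹ * e) * c⁻¹) = c * e * c⁻¹ by group] at h4

/-- Such an element moves the subgroup only by the diagonal element. -/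
theorem Cfg.conj_E_eq {c : G} (hc : P.Swaps c) (h : ∀ k ∈ P.K, c * k * c⁻¹ * k⁻¹ ∈ P.E) {e : G}
    (he : e ∈ P.E) : c * e * c⁻¹ = e ∨ c * e * c⁻¹ = e * (X.d * y) := by
  have hzE : ∀ {a : G}, a ∈ P.E → Commute a (X.d * y) := fun ha => P.z_comm (P.E_le ha)
  have hz2 := P.z_sq
  have hzconj := hc.conj_z
  -- the property only depends on the parameter
  have hshift : ∀ {e e' : G} {u : Fin 4 → F}, P.HasPar e u → P.HasPar e' u →
      (c * e * c⁻¹ = e ∨ c * e * c⁻¹ = e * (X.d * y)) →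
      (c * e' * c⁻¹ = e' ∨ c * e' * c⁻¹ = e' * (X.d * y)) := by
    intro e e' u h1 h2 h3
    have hd : c * (e * X.d) * c⁻¹ = c * e * c⁻¹ * y := by rw [← hc.1]; group
    have hy : c * (e * y) * c⁻¹ = c * e * c⁻¹ * X.d := by rw [← hc.2]; group
    have hz : c * (e * (X.d * y)) * c⁻¹ = c * e * c⁻¹ * (X.d * y) := by
      calc c * (e * (X.d * y)) * c⁻¹ = c * e * c⁻¹ * (c * (X.d * y) * c⁻¹) := by group
        _ = c * e * c⁻¹ * (X.d * y) := by rw [hzconj]
    have hdz : X.d * (X.d * y) = y := by rw [← mul_assoc, P.d_sq, one_mul]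
    have hyz : y * (X.d * y) = X.d := by rw [P.commute.eq, ← mul_assoc, P.y_sq, one_mul]
    have hzy : X.d * y * y = X.d := by rw [mul_assoc, P.y_sq, mul_one]
    have hzd : X.d * y * X.d = y := by rw [P.commute.eq, mul_assoc, P.d_sq, mul_one]
    rcases P.same_par h1 h2 with r | r | r | r <;> rw [r]
    · exact h3
    · rw [hd]
      rcases h3 with g | g <;> rw [g]
      · exact Or.inr (by rw [mul_assoc, hdz])
      · exact Or.inl (by rw [mul_assoc, hzy])
    · rw [hy]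
      rcases h3 with g | g <;> rw [g]
      · exact Or.inr (by rw [mul_assoc, hyz])
      · exact Or.inl (by rw [mul_assoc, hzd])
    · rw [hz]
      rcases h3 with g | g <;> rw [g]
      · exact Or.inl rfl
      · exact Or.inr rfl
  let T : AddSubgroup (Fin 4 → F) :=
    { carrier := {u | ∃ e, P.HasPar e u ∧ (c * e * c⁻¹ = e ∨ c * e * c⁻¹ = e * (X.d * y))}
      zero_mem' := ⟨1, P.hasPar_zero_iff.2 (Or.inl rfl), Or.inl (by group)⟩
      add_mem' := by
        rintro a b ⟨e, h1, h2⟩ ⟨f, g1, g2⟩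
        refine ⟨e * f, h1.mul g1, ?_⟩
        rw [show c * (e * f) * c⁻¹ = (c * e * c⁻¹) * (c * f * c⁻¹) by group]
        rcases h2 with r | r <;> rcases g2 with s | s <;> rw [r, s]
        · exact Or.inl rfl
        · exact Or.inr (by rw [mul_assoc])
        · exact Or.inr (by rw [mul_assoc, ← (hzE g1.mem).eq, mul_assoc])
        · refine Or.inl ?_
          calc e * (X.d * y) * (f * (X.d * y)) = e * ((X.d * y) * f) * (X.d * y) := by group
            _ = e * (f * (X.d * y)) * (X.d * y) := by rw [(hzE g1.mem).eq]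
            _ = e * f * (X.d * y * (X.d * y)) := by group
            _ = e * f := by rw [hz2, mul_one]
      neg_mem' := by
        rintro a ⟨e, h1, h2⟩
        refine ⟨e, ?_, h2⟩
        rwa [show -a = a from neg_eq_of_add_eq_zero_left (smul_add_self_zero hF a)] }
  have hinv : ∀ m : Unit' (𝓚), detHom (𝓚) m = 1 → ∀ u ∈ T, m.1 u ∈ T := by
    rintro m hm u ⟨e, h1, h2⟩
    obtain ⟨⟨k, hk⟩, rfl⟩ := (P.rho_range m).2 hm
    refine ⟨k * e * k⁻¹, h1.conj hk, ?_⟩
    have hf := h k hk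
    have hg := (h1.conj hk).mem
    have hkz := P.z_comm hk
    have e1 : c * (k * e * k⁻¹) * c⁻¹ =
        (c * k * c⁻¹ * k⁻¹) * (k * (c * e * c⁻¹) * k⁻¹) * (c * k * c⁻¹ * k⁻¹)⁻¹ := by group
    rw [e1]
    generalize c * k * c⁻¹ * k⁻¹ = f at hf ⊢
    have e2 : ∀ g : G, g ∈ P.E → f * g * f⁻¹ = g ∨ f * g * f⁻¹ = g * (X.d * y) := by
      intro g hg
      rcases P.comm_E hc hf hg with r | r
      · exact Or.inl (by rw [r, mul_inv_cancel_right])
      · refine Or.inr ?_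
        rw [r, mul_assoc (g * f), ← ((hzE hf).inv_left).eq, ← mul_assoc, mul_inv_cancel_right]
    have hkz' : k * (e * (X.d * y)) * k⁻¹ = k * e * k⁻¹ * (X.d * y) := by
      rw [← mul_assoc, mul_assoc (k * e), ← hkz.inv_left.eq, ← mul_assoc]
    rcases h2 with r | r <;> rw [r]
    · exact e2 _ hg
    · rw [hkz']
      have e3 : f * (k * e * k⁻¹ * (X.d * y)) * f⁻¹ = f * (k * e * k⁻¹) * f⁻¹ * (X.d * y) := by
        rw [← mul_assoc f, mul_assoc (f * (k * e * k⁻¹)), ← ((hzE hf).inv_left).eq, ← mul_assoc]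
      rw [e3]
      rcases e2 _ hg with s | s <;> rw [s]
      · exact Or.inr rfl
      · exact Or.inl (by rw [mul_assoc, hz2, mul_one])
  have hnz : ∃ v ∈ T, v ≠ 0 := by
    by_contra hcon
    push Not at hcon
    let u1 : Fin 4 → F := ![1, 0, 0, 0]
    let u2 : Fin 4 → F := ![0, 1, 0, 0]
    have hu1 : u1 ≠ 0 := fun h => by simpa [u1] using congrFun h 0
    have hu2 : u2 ≠ 0 := fun h => by simpa [u2] using congrFun h 1
    have hu12 : u1 + u2 ≠ 0 := fun h => by simpa [u1, u2] using congrFun h 0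
    have hout : ∀ u : Fin 4 → F, u ≠ 0 → ∀ a : G, P.HasPar a u →
        c * a * c⁻¹ = a * X.d ∨ c * a * c⁻¹ = a * y := by
      intro u hu a ha
      have hna : ¬ (c * a * c⁻¹ = a ∨ c * a * c⁻¹ = a * (X.d * y)) := fun h2 => hu (hcon u ⟨a, ha, h2⟩)
      rcases P.same_par ha (P.par_fixed hc h ha) with r | r | r | r
      · exact absurd (Or.inl r) hna
      · exact Or.inl r
      · exact Or.inr r
      · exact absurd (Or.inr r) hna
    obtain ⟨a, ha⟩ := P.exists_hasPar u1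
    obtain ⟨b, hb⟩ := P.exists_hasPar u2
    refine hu12 (hcon (u1 + u2) ⟨a * b, ha.mul hb, ?_⟩)
    rw [show c * (a * b) * c⁻¹ = (c * a * c⁻¹) * (c * b * c⁻¹) by group]
    have hbd : Commute b X.d := P.commute_d (P.E_le hb.mem)
    have hby : Commute b y := P.commute_y (P.E_le hb.mem)
    rcases hout u1 hu1 a ha with r | r <;> rcases hout u2 hu2 b hb with s | s <;> rw [r, s]
    · refine Or.inl ?_
      calc a * X.d * (b * X.d) = a * (X.d * b) * X.d := by group
        _ = a * (b * X.d) * X.d := by rw [hbd.eq]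
        _ = a * b * (X.d * X.d) := by group
        _ = a * b := by rw [P.d_sq, mul_one]
    · refine Or.inr ?_
      calc a * X.d * (b * y) = a * (X.d * b) * y := by group
        _ = a * (b * X.d) * y := by rw [hbd.eq]
        _ = a * b * (X.d * y) := by group
    · refine Or.inr ?_
      calc a * y * (b * X.d) = a * (y * b) * X.d := by group
        _ = a * (b * y) * X.d := by rw [hby.eq]
        _ = a * b * (y * X.d) := by group
        _ = a * b * (X.d * y) := by rw [P.commute.eq]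
    · refine Or.inl ?_
      calc a * y * (b * y) = a * (y * b) * y := by group
        _ = a * (b * y) * y := by rw [hby.eq]
        _ = a * b * (y * y) := by group
        _ = a * b := by rw [P.y_sq, mul_one]
  obtain ⟨v, hv, hv0'⟩ := hnz
  obtain ⟨u, hu⟩ := P.exists_par he
  obtain ⟨e', h1, h2⟩ : u ∈ T := invariant_top T hinv hv hv0' ▸ AddSubgroup.mem_top u
  exact hshift h1 hu h2

omit P in
/-- The five members on the line of two orthogonal isotropic vectors multiply to a central element. -/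
theorem line_prod {n : ℕ} {a b : Fin n → F} {ω : F} (hω : ω ^ 2 + ω + 1 = 0) (ha : (stdHerm hF n).h a a = 0)
    (hb : (stdHerm hF n).h b b = 0) (hab : (stdHerm hF n).h a b = 0)
    {h1 : (stdHerm hF n).h (a + b) (a + b) = 0} {h2 : (stdHerm hF n).h (a + ω • b) (a + ω • b) = 0}
    {h3 : (stdHerm hF n).h (a + ω ^ 2 • b) (a + ω ^ 2 • b) = 0} :
    tv hF a ha * tv hF (a + b) h1 * tv hF (a + ω • b) h2 * tv hF (a + ω ^ 2 • b) h3 * tv hF b hb = 1 := by
  have hba := (stdHerm hF n).h_comm_zero hab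
  have hl : ∀ r s : F, (stdHerm hF n).h (r • a + s • b) a = 0 ∧ (stdHerm hF n).h (r • a + s • b) b = 0 :=
    fun r s => ⟨by rw [(stdHerm hF n).add_left, (stdHerm hF n).smul_left, (stdHerm hF n).smul_left, ha, hba]; ring,
      by rw [(stdHerm hF n).add_left, (stdHerm hF n).smul_left, (stdHerm hF n).smul_left, hab, hb]; ring⟩
  have h3' : ω ^ 3 = 1 := CfsgLib.UnitaryTransv.pow_three hF (omega_ne_zero hω)
  have h4' : ω ^ 4 = ω := by linear_combination ω * h3'
  refine unit_ext fun x => ?_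
  simp only [CfsgLib.Classical.Herm.mul_apply, one_apply, tv_apply, (stdHerm hF n).add_left,
    (stdHerm hF n).smul_left, (stdHerm hF n).add_right, (stdHerm hF n).smul_right, stdHerm_conj, ha, hb, hab,
    hba, mul_zero, add_zero, smul_add, smul_smul]
  have h20 := two_eq_zero hF
  match_scalars <;> grind

/-- An element interchanging the two members acts on the joint centraliser as an outer automorphism. -/
theorem Cfg.outer (hctx : ∀ d ∈ D, ∃ Y : Ctx hF G, Y.d = d) {g : G} (hg : P.Swaps g)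
    (h : ∀ k ∈ P.K, g * k * g⁻¹ * k⁻¹ ∈ P.E) : False := by
  obtain ⟨ω, hω⟩ := exists_omega hF
  let u0 : Fin 4 → F := ![1, 1, 0, 0]
  have hu00 : (𝓚).h u0 u0 = 0 := by
    simp [u0, Cfsg.hermForm, Fin.sum_univ_four]
    linear_combination two_eq_zero hF
  have hu0 : u0 ≠ 0 := fun h => by simpa [u0] using congrFun h 0
  let a : Fin 6 → F := em u0
  have ha : (𝓗).h a a = 0 := by
    rw [h6, wp_em, hu00]; simp [a, em]
  have hab : (𝓗).h a v0 = 0 := by rw [h_v0, phi_em]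
  have ha0 : a ≠ 0 := fun h => hu0 (by rw [← wp_em u0]; show wp a = 0; rw [h]; funext i; fin_cases i <;> simp [wp])
  have hvl : ∀ l : F, (𝓗).h (a + l • v0) (a + l • v0) = 0 := fun l => by
    rw [(𝓗).add_left, (𝓗).add_right, (𝓗).add_right, (𝓗).smul_left, (𝓗).smul_left, (𝓗).smul_right,
      (𝓗).smul_right, ha, hv0 hF, hab, (𝓗).h_comm_zero hab]
    ring
  obtain ⟨t, htD, htd, Lt⟩ := P.exists_member ha ha0
  let yC : ↥(centralizer ({X.d} : Set G)) := ⟨y, P.comm⟩
  have hty : (t : G) ≠ y := by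
    intro he
    have Lt' : X.D.L yC (tv hF a ha) := by
      rw [show yC = t from Subtype.ext he.symm]; exact Lt
    have e1 := Lt'.eq_of_invol P.lift (tv_sq hF _ _) (tv_sq hF _ _)
    obtain ⟨r, hr, e2⟩ := tv_eq_imp hF _ ha v0_ne_zero e1
    refine hu0 ?_
    have e3 := congrArg wp e2
    rw [wp_v0, wp_smul, wp_em] at e3
    exact (smul_eq_zero.1 e3.symm).resolve_left hr
  have htK : (t : G) ∈ P.K := P.mem_K_of_L Lt (by
    rw [tv_apply, (𝓗).h_comm_zero hab, zero_smul, add_zero])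
  -- the conjugates by elements of the subgroup
  have hmove : ∀ l : F, ∃ e ∈ P.E, ∃ hk : e ∈ centralizer ({X.d} : Set G),
      X.D.L (⟨e, hk⟩ * t * ⟨e, hk⟩⁻¹) (tv hF (a + l • v0) (hvl l)) := by
    intro l
    obtain ⟨x, hx⟩ := (𝓚).exists_h_one hu0
    obtain ⟨e, he⟩ := P.exists_hasPar (l ^ 2 • x)
    refine ⟨e, he.mem, (P.E_le he.mem).1, ?_⟩
    obtain ⟨hm, c, hc, hk⟩ := he
    have Le := P.kap_spec ⟨e, hm⟩
    rw [hk] at Le
    have h1 := Le.conj Lt
    rw [tv_conj] at h1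
    rwa [tv_congr hF _ (hvl l) (show (qel hF (l ^ 2 • x) c hc).1 a = a + l • v0 by
      rw [qel_em, (𝓚).smul_right, stdHerm_conj, ← (𝓚).symm', hx, map_one, mul_one, ← pow_mul,
        f_pow_four hF])] at h1
  -- replace the element by one fixing the member
  obtain ⟨htK1, htK2⟩ := htK
  have hgtK : g * (t : G) * g⁻¹ ∈ P.K := hg.conj_mem_K ⟨htK1, htK2⟩
  let t' : ↥(centralizer ({X.d} : Set G)) := ⟨g * t * g⁻¹, hgtK.1⟩
  have ht'D : (t' : G) ∈ D := (CfsgLib.ThreeTransp.class_to_group P.base.cls).2.1 g _ htD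
  have ht'd : (t' : G) ≠ X.d := fun he => hty (by
    have he' : g * (t : G) * g⁻¹ = X.d := he
    exact mul_left_cancel (mul_right_cancel (he'.trans hg.2.symm)))
  have ht'y : (t' : G) ≠ y := fun he => htd (by
    have he' : g * (t : G) * g⁻¹ = y := he
    exact mul_left_cancel (mul_right_cancel (he'.trans hg.1.symm)))
  obtain ⟨w, hw, hw0, Lt'⟩ := P.base.exists_tv ht'D ht'd
  have hwv : (tv hF w hw).1 v0 = v0 := by
    have e1 := Lt'.conj P.lift
    rw [tv_conj] at e1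
    have e2 : t' * yC * t'⁻¹ = yC := mul_inv_eq_iff_eq_mul.2 (Subtype.ext (mem_centralizer_singleton_iff.1 hgtK.2))
    rw [e2] at e1
    obtain ⟨r, hr, e3⟩ := tv_eq_imp hF _ (hv0 hF) (unit_ne_zero _ v0_ne_zero)
      (e1.eq_of_invol P.lift (tv_sq hF _ _) (tv_sq hF _ _)).symm
    rw [tv_apply] at e3
    by_contra hne
    rw [tv_apply, add_eq_left] at hne
    have hh : (𝓗).h v0 w ≠ 0 := fun h0 => hne (by rw [h0, zero_smul])
    have hwv0 : w = (((𝓗).h v0 w)⁻¹ * (r - 1)) • v0 := by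
      rw [mul_smul, sub_smul, one_smul, ← e3, add_sub_cancel_left, smul_smul, inv_mul_cancel₀ hh, one_smul]
    refine ht'y (congrArg Subtype.val (P.base.eq_of_L (c := yC) (c' := t') P.mem ht'D P.lift ?_))
    have hc0 : ((𝓗).h v0 w)⁻¹ * (r - 1) ≠ 0 := fun h0 => hw0 (by rw [hwv0, h0, zero_smul])
    rwa [tv_smul hF hc0 (hv0 hF) hw hwv0] at Lt'
  obtain ⟨hEK, hr1⟩ := P.mem_E.1 (h t ⟨htK1, htK2⟩)
  have hrho : P.rho ⟨g * t * g⁻¹, hgtK⟩ = P.rho ⟨(t : G), htK1, htK2⟩ := by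
    rw [show (⟨g * t * g⁻¹, hgtK⟩ : P.K) = ⟨g * t * g⁻¹ * (t : G)⁻¹, hEK⟩ * ⟨(t : G), htK1, htK2⟩ from
      Subtype.ext (show g * t * g⁻¹ = g * t * g⁻¹ * (t : G)⁻¹ * t by rw [inv_mul_cancel_right]), map_mul, hr1,
      one_mul]
  have htvdet : ∀ (v : Fin 6 → F) (hv : (𝓗).h v v = 0), detHom (𝓗) (tv hF v hv) = 1 := det_tv hF
  have htfix : (tv hF a ha).1 v0 = v0 := by rw [tv_apply, (𝓗).h_comm_zero hab, zero_smul, add_zero]
  have k1 := P.kap_eq (c := ⟨g * t * g⁻¹, hgtK⟩) (k := ⟨tv hF w hw, hwv, htvdet w hw⟩) Lt'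
  have k2 := P.kap_eq (c := ⟨(t : G), htK1, htK2⟩) (k := ⟨tv hF a ha, htfix, htvdet a ha⟩) Lt
  have hres : ∀ u : Fin 4 → F, wp ((tv hF w hw).1 (em u)) = wp ((tv hF a ha).1 (em u)) := by
    intro u
    have e1 : P.rho ⟨g * t * g⁻¹, hgtK⟩ = resHom hF ⟨tv hF w hw, hwv, htvdet w hw⟩ := congrArg (resHom hF) k1
    have e2 : P.rho ⟨(t : G), htK1, htK2⟩ = resHom hF ⟨tv hF a ha, htfix, htvdet a ha⟩ := congrArg (resHom hF) k2
    rw [hrho, e2] at e1
    exact (congrArg (fun m : Unit' (𝓚) => m.1 u) e1).symm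
  have hwphi : phi w = 0 := by
    rw [tv_apply, add_eq_left] at hwv
    have := (smul_eq_zero.1 hwv).resolve_right hw0
    rw [← h_v0 hF]; exact (𝓗).h_comm_zero this
  have hwdec : w = w 1 • v0 + em (wp w) := by
    have := decomp hF w
    rwa [hwphi, zero_smul, add_zero] at this
  obtain ⟨x0, hx0⟩ := (𝓚).exists_h_one hu0
  have hr := hres x0
  rw [tv_apply, tv_apply, wp_add, wp_add, wp_smul, wp_smul, wp_em, wp_em] at hr
  have h60 : ∀ (u : Fin 4 → F) (r : Fin 6 → F), (𝓗).h (em u) r = (𝓚).h u (wp r) := fun u r => by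
    rw [h6, wp_em]; simp [em]
  rw [h60, h60, wp_em, hx0, one_smul] at hr
  set m := (𝓚).h x0 (wp w)
  have hm : m ≠ 0 := fun h0 => hu0 (by rw [h0, zero_smul] at hr; exact (add_left_cancel hr).symm)
  have hwq : wp w = m⁻¹ • u0 := by rw [← add_left_cancel hr, smul_smul, inv_mul_cancel₀ hm, one_smul]
  have hwa : w = m⁻¹ • (a + (m * w 1) • v0) := by
    rw [smul_add, smul_smul, ← mul_assoc, inv_mul_cancel₀ hm, one_mul, ← em_smul, ← hwq, add_comm]
    exact hwdec
  rw [tv_smul hF (inv_ne_zero hm) (hvl _) hw hwa] at Lt'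
  obtain ⟨e0, he0, he0C, Le0⟩ := hmove (m * w 1)
  have hget : (t' : G) = e0 * t * e0⁻¹ :=
    congrArg Subtype.val (P.base.eq_of_L (c := ⟨e0, he0C⟩ * t * ⟨e0, he0C⟩⁻¹) (c' := t')
      ((CfsgLib.ThreeTransp.class_to_group P.base.cls).2.1 e0 _ htD) ht'D Le0 Lt')
  change g * (t : G) * g⁻¹ = e0 * t * e0⁻¹ at hget
  -- the corrected element
  set c := e0⁻¹ * g with hcdef
  have hcd : P.Swaps c := by
    constructor
    · calc c * X.d * c⁻¹ = e0⁻¹ * (g * X.d * g⁻¹) * e0 := by rw [hcdef]; group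
        _ = e0⁻¹ * (y * e0) := by rw [hg.1, mul_assoc]
        _ = y := by rw [← (P.commute_y (P.E_le he0)).eq, inv_mul_cancel_left]
    · calc c * y * c⁻¹ = e0⁻¹ * (g * y * g⁻¹) * e0 := by rw [hcdef]; group
        _ = e0⁻¹ * (X.d * e0) := by rw [hg.2, mul_assoc]
        _ = X.d := by rw [← (P.commute_d (P.E_le he0)).eq, inv_mul_cancel_left]
  have hcE : ∀ k ∈ P.K, c * k * c⁻¹ * k⁻¹ ∈ P.E := by
    intro k hk
    rw [show c * k * c⁻¹ * k⁻¹ = e0⁻¹ * (g * k * g⁻¹ * k⁻¹) * (k * e0 * k⁻¹) by rw [hcdef]; group]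
    exact mul_mem (mul_mem (inv_mem he0) (h k hk)) (P.conj_mem_E hk he0)
  have hct : c * t * c⁻¹ = (t : G) := by
    calc c * t * c⁻¹ = e0⁻¹ * (g * t * g⁻¹) * e0 := by rw [hcdef]; group
      _ = t := by rw [hget]; group
  have hzt : Commute (t : G) (X.d * y) := P.z_comm ⟨htK1, htK2⟩
  have hfix : ∀ e ∈ P.E, c * (e * t * e⁻¹) * c⁻¹ = e * t * e⁻¹ := by
    intro e he
    rw [show c * (e * t * e⁻¹) * c⁻¹ = (c * e * c⁻¹) * (c * t * c⁻¹) * (c * e * c⁻¹)⁻¹ by group, hct]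
    rcases P.conj_E_eq hcd hcE he with r | r <;> rw [r]
    calc e * (X.d * y) * (t : G) * (e * (X.d * y))⁻¹ = e * ((X.d * y) * t) * (X.d * y)⁻¹ * e⁻¹ := by group
      _ = e * (t * (X.d * y)) * (X.d * y)⁻¹ * e⁻¹ := by rw [hzt.eq]
      _ = e * t * e⁻¹ := by group
  -- the line
  obtain ⟨ep, hep, hepC, Lp⟩ := hmove 1
  obtain ⟨eq, heq, heqC, Lq⟩ := hmove ω
  obtain ⟨er, her, herC, Lr⟩ := hmove (ω ^ 2)
  set p := (⟨ep, hepC⟩ * t * ⟨ep, hepC⟩⁻¹ : ↥(centralizer ({X.d} : Set G))) with hp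
  set q := (⟨eq, heqC⟩ * t * ⟨eq, heqC⟩⁻¹ : ↥(centralizer ({X.d} : Set G))) with hq
  set r := (⟨er, herC⟩ * t * ⟨er, herC⟩⁻¹ : ↥(centralizer ({X.d} : Set G))) with hr'
  have hconjD : ∀ e : G, e * (t : G) * e⁻¹ ∈ D := fun e =>
    (CfsgLib.ThreeTransp.class_to_group P.base.cls).2.1 e _ htD
  have hpD : (p : G) ∈ D := hconjD ep
  have hqD : (q : G) ∈ D := hconjD eq
  have hrD : (r : G) ∈ D := hconjD er
  have hcp : c * p * c⁻¹ = (p : G) := hfix ep hep
  have hcq : c * q * c⁻¹ = (q : G) := hfix eq heq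
  have hcr : c * r * c⁻¹ = (r : G) := hfix er her
  have hvl1 : (𝓗).h (a + v0) (a + v0) = 0 := by have := hvl 1; rwa [one_smul] at this
  rw [tv_congr hF _ hvl1 (show a + (1 : F) • v0 = a + v0 by rw [one_smul])] at Lp
  have hL5 := (((Lt.mul Lp).mul Lq).mul Lr).mul P.lift
  rw [line_prod hω ha (hv0 hF) hab] at hL5
  have horth : ∀ l l' : F, (𝓗).h (a + l • v0) (a + l' • v0) = 0 := fun l l' => by
    rw [(𝓗).add_left, (𝓗).add_right, (𝓗).add_right, (𝓗).smul_left, (𝓗).smul_left, (𝓗).smul_right,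
      (𝓗).smul_right, ha, hv0 hF, hab, (𝓗).h_comm_zero hab]
    ring
  have horth1 : ∀ l : F, (𝓗).h (a + l • v0) v0 = 0 := fun l => by
    rw [(𝓗).add_left, (𝓗).smul_left, hv0 hF, hab]; ring
  have o0 : ∀ l : F, (𝓗).h (a + l • v0) a = 0 := fun l => by simpa using horth l 0
  have ctp := P.base.commute_of_orth hpD Lt Lp (by simpa using o0 1)
  have ctq := P.base.commute_of_orth hqD Lt Lq (o0 ω)
  have ctr := P.base.commute_of_orth hrD Lt Lr (o0 (ω ^ 2))
  have cpq := P.base.commute_of_orth hqD Lp Lq (by simpa using horth ω 1)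
  have cpr := P.base.commute_of_orth hrD Lp Lr (by simpa using horth (ω ^ 2) 1)
  have cqr := P.base.commute_of_orth hrD Lq Lr (horth (ω ^ 2) ω)
  have cyt := P.base.commute_of_orth (t := t) htD P.lift Lt hab
  have cyp := P.base.commute_of_orth (t := p) hpD P.lift Lp (by simpa using horth1 1)
  have cyq := P.base.commute_of_orth (t := q) hqD P.lift Lq (horth1 ω)
  have cyr := P.base.commute_of_orth (t := r) hrD P.lift Lr (horth1 (ω ^ 2))
  have hprod : (t : G) * p * q * r * y = 1 ∨ (t : G) * p * q * r * y = X.d := by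
    rcases X.D.L_one.eq_or hL5 with e | e
    · exact Or.inl (congrArg Subtype.val e)
    · refine Or.inr ?_
      have e' : (t : G) * p * q * r * y = (1 : G) * X.d :=
        (congrArg Subtype.val e).trans (congrArg ((1 : G) * ·) X.hz)
      rwa [one_mul] at e'
  rcases hprod with e | e
  · refine P.ne ?_
    have e' : (t : G) * p * q * r * X.d = 1 := by
      calc (t : G) * p * q * r * X.d = (c * t * c⁻¹) * (c * p * c⁻¹) * (c * q * c⁻¹) * (c * r * c⁻¹) *
            (c * y * c⁻¹) := by rw [hct, hcp, hcq, hcr, hcd.2]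
        _ = c * (t * p * q * r * y) * c⁻¹ := by group
        _ = 1 := by rw [e]; group
    exact mul_left_cancel (e.trans e'.symm)
  -- the hexad at the member
  obtain ⟨Y, hY⟩ := hctx _ htD
  have BY : Base hF D Y := ⟨P.base.cls, by rw [hY]; exact htD, P.base.prod_not_mem⟩
  have hC : ∀ {s : G}, Commute (t : G) s → s ∈ centralizer ({Y.d} : Set G) := fun hs => by
    rw [hY]; exact mem_centralizer_singleton_iff.2 hs.symm.eq
  have vc : ∀ {s u : ↥(centralizer ({X.d} : Set G))}, Commute s u → Commute (s : G) u := fun hs =>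
    congrArg Subtype.val hs.eq
  have cdt : Commute (t : G) X.d := mem_centralizer_singleton_iff.1 t.2
  have hind : ∀ {l l' : F}, l ≠ l' → ∀ {s u : ↥(centralizer ({X.d} : Set G))},
      X.D.L s (tv hF (a + l • v0) (hvl l)) → X.D.L u (tv hF (a + l' • v0) (hvl l')) → (s : G) ≠ u := by
    intro l l' hne s u Ls Lu he
    rw [show s = u from Subtype.ext he] at Ls
    have ne0 : a + l • v0 ≠ 0 := fun h0 => hu0 (by
      have h1 := congrArg wp h0
      rw [wp_add, wp_smul, wp_v0, smul_zero, add_zero, wp_em] at h1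
      rw [h1]; funext i; fin_cases i <;> simp [wp])
    obtain ⟨s', -, e1⟩ := tv_eq_imp hF _ (hvl l') ne0 (Ls.eq_of_invol Lu (tv_sq hF _ _) (tv_sq hF _ _)).symm
    have e2 := congrArg wp e1
    rw [wp_add, wp_smul, wp_v0, smul_zero, add_zero, wp_smul, wp_add, wp_smul, wp_v0, smul_zero, add_zero,
      wp_em] at e2
    have hs' : s' = 1 := smul_left_injective F hu0 (by show s' • u0 = (1 : F) • u0; rw [one_smul, ← e2])
    rw [hs', one_smul, add_right_inj] at e1
    exact hne (smul_left_injective F v0_ne_zero e1)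
  have Lp' : X.D.L p (tv hF (a + (1 : F) • v0) (hvl 1)) := by
    rw [tv_congr hF _ hvl1 (show a + (1 : F) • v0 = a + v0 by rw [one_smul])]; exact Lp
  have Lt0 : X.D.L t (tv hF (a + (0 : F) • v0) (hvl 0)) := by
    rw [tv_congr hF _ ha (show a + (0 : F) • v0 = a by rw [zero_smul, add_zero])]; exact Lt
  have hω0 := omega_ne_zero hω
  have hω1 : ω ≠ 1 := fun h => one_ne_zero (show (1 : F) = 0 by
    rw [h] at hω; linear_combination hω - two_eq_zero hF)
  have n_tp := hind zero_ne_one Lt0 Lp'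
  have n_tq := hind hω0.symm Lt0 Lq
  have n_tr := hind (pow_ne_zero 2 hω0).symm Lt0 Lr
  have n_pq := hind hω1.symm Lp' Lq
  have n_pr : (p : G) ≠ r := hind (fun h => hω1 (by
    linear_combination ω * h + CfsgLib.UnitaryTransv.pow_three hF hω0)) Lp' Lr
  have n_qr : (q : G) ≠ r := hind (fun h => hω1 (mul_left_cancel₀ hω0 (by linear_combination -h))) Lq Lr
  have npd : ∀ {e : G}, e ∈ P.E → e * (t : G) * e⁻¹ ≠ X.d ∧ e * (t : G) * e⁻¹ ≠ y := by
    intro e he
    constructor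
    · intro h'
      refine htd ?_
      calc (t : G) = e⁻¹ * (e * t * e⁻¹) * e := by group
        _ = e⁻¹ * (X.d * e) := by rw [h', mul_assoc]
        _ = X.d := by rw [← (P.commute_d (P.E_le he)).eq, inv_mul_cancel_left]
    · intro h'
      refine hty ?_
      calc (t : G) = e⁻¹ * (e * t * e⁻¹) * e := by group
        _ = e⁻¹ * (y * e) := by rw [h', mul_assoc]
        _ = y := by rw [← (P.commute_y (P.E_le he)).eq, inv_mul_cancel_left]
  have c_tp := vc ctp
  have c_tq := vc ctq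
  have c_tr := vc ctr
  have c_pq := vc cpq
  have c_pr := vc cpr
  have c_qr := vc cqr
  have c_yt : Commute y (t : G) := vc cyt
  have c_yp : Commute y (p : G) := vc cyp
  have c_yq : Commute y (q : G) := vc cyq
  have c_yr : Commute y (r : G) := vc cyr
  have c_dp : Commute X.d (p : G) := (mem_centralizer_singleton_iff.1 p.2).symm
  have c_dq : Commute X.d (q : G) := (mem_centralizer_singleton_iff.1 q.2).symm
  have c_dr : Commute X.d (r : G) := (mem_centralizer_singleton_iff.1 r.2).symm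
  have sq : ∀ {s : G}, s ∈ D → s * s = 1 := fun hs => CfsgLib.ThreeTrans.mul_self P.base.cls.1 hs
  have hpr : (X.d : G) * y * p * q * r = t := by
    calc (X.d : G) * y * p * q * r = (t * p * q * r * y) * y * p * q * r := by rw [e]
      _ = t * p * q * r * (y * y) * p * q * r := by group
      _ = t * p * q * (r * p) * q * r := by rw [P.y_sq, mul_one]; group
      _ = t * p * q * (p * r) * q * r := by rw [c_pr.eq]
      _ = t * p * (q * p) * r * q * r := by group
      _ = t * p * (p * q) * r * q * r := by rw [c_pq.eq]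
      _ = t * (p * p) * q * (r * q) * r := by group
      _ = t * q * (q * r) * r := by rw [sq hpD, mul_one, c_qr.eq]
      _ = t * (q * q) * (r * r) := by group
      _ = t := by rw [sq hqD, sq hrD, mul_one, mul_one]
  refine BY.hexad ⟨X.d, hC cdt⟩ ⟨y, hC c_yt.symm⟩ ⟨p, hC c_tp⟩ ⟨q, hC c_tq⟩ ⟨r, hC c_tr⟩
    ⟨c, by rw [hY]; exact mem_centralizer_singleton_iff.2 (mul_inv_eq_iff_eq_mul.1 hct)⟩ ?_ ?_ ?_
    (Subtype.ext (hpr.trans (hY.symm.trans Y.hz.symm))) (Subtype.ext hcp) (Subtype.ext hcq) (Subtype.ext hcr)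
    (Subtype.ext hcd.1)
  · simp only [List.mem_cons, List.not_mem_nil, or_false, forall_eq_or_imp, forall_eq]
    rw [hY]
    exact ⟨⟨P.base.mem, Ne.symm htd⟩, ⟨P.mem, hty.symm⟩, ⟨hpD, n_tp.symm⟩, ⟨hqD, n_tq.symm⟩, hrD, n_tr.symm⟩
  · simp only [List.nodup_cons, List.mem_cons, List.not_mem_nil, or_false, List.nodup_nil, not_false_iff,
      and_true, not_or, Subtype.mk.injEq]
    exact ⟨⟨P.ne.symm, (npd hep).1.symm, (npd heq).1.symm, (npd her).1.symm⟩,
      ⟨(npd hep).2.symm, (npd heq).2.symm, (npd her).2.symm⟩, ⟨n_pq, n_pr⟩, n_qr⟩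
  · intro s hs u hu
    simp only [List.mem_cons, List.not_mem_nil, or_false] at hs hu
    refine Subtype.ext ?_
    rcases hs with rfl | rfl | rfl | rfl | rfl <;> rcases hu with rfl | rfl | rfl | rfl | rfl
    exacts [rfl, P.commute.eq, c_dp.eq, c_dq.eq, c_dr.eq, P.commute.symm.eq, rfl, c_yp.eq, c_yq.eq, c_yr.eq,
      c_dp.symm.eq, c_yp.symm.eq, rfl, c_pq.eq, c_pr.eq, c_dq.symm.eq, c_yq.symm.eq, c_pq.symm.eq, rfl, c_qr.eq,
      c_dr.symm.eq, c_yr.symm.eq, c_pr.symm.eq, c_qr.symm.eq, rfl]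

end CfsgLib.FischerThompson
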