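import Cfsg.Agent.Lib.CosetEnum.Fi22.RigidMain
import Cfsg.Prelude.Def_KGroupFacts
import Cfsg.Prelude.Def_Spor_Fi22

/-!
A group isomorphic to the presented `Fi22` has an outer automorphism.
-/

set_option autoImplicit false
set_option linter.style.haveILetI false

namespace CfsgLib.FischerThompson

theorem exists_outer_of_iso {G : Type*} [Group G] (e : G ≃* Cfsg.Spor.Fi22) :
    ∃ σ : MulAut G, σ ∉ (MulAut.conj : G →* MulAut G).range := by
  by_contra hcon
  push Not at hcon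
  have hall : ∀ τ : MulAut Cfsg.Spor.Fi22, τ ∈ Cfsg.Inn Cfsg.Spor.Fi22 := by
    intro τ
    obtain ⟨g, hg⟩ := hcon ((e.trans τ).trans e.symm)
    refine ⟨e g, MulEquiv.ext fun x => ?_⟩
    obtain ⟨x, rfl⟩ := e.surjective x
    have h1 : g * x * g⁻¹ = e.symm (τ (e x)) := DFunLike.congr_fun hg x
    show e g * e x * (e g)⁻¹ = τ (e x)
    rw [← map_inv, ← map_mul, ← map_mul, h1, e.apply_symm_apply]
  have h2 : Nat.card (Cfsg.Out Cfsg.Spor.Fi22) = 2 := CfsgLib.CosetEnum.Fi22.Rigid.card_out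
  haveI : Subsingleton (Cfsg.Out Cfsg.Spor.Fi22) := ⟨fun a b => by
    obtain ⟨a, rfl⟩ := QuotientGroup.mk_surjective a
    obtain ⟨b, rfl⟩ := QuotientGroup.mk_surjective b
    exact QuotientGroup.eq.2 (hall _)⟩
  rw [Nat.card_of_subsingleton (QuotientGroup.mk 1 : Cfsg.Out Cfsg.Spor.Fi22)] at h2
  norm_num at h2

end CfsgLib.FischerThompson
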