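import Cfsg.Agent.Lib.FischerThompson.Outer
import Cfsg.Agent.Lib.AutPSU.Bridge
import Cfsg.Agent.Lib.LargeFischer.AutO6
import Cfsg.Agent.Lib.Components.GenFitting
import Cfsg.Agent.Lib.Components.Subnormal
import Cfsg.Agent.Lib.PGroup.Basic

/-!
The centraliser of the product of two commuting members of type M(22).
-/

set_option autoImplicit false
set_option linter.unusedSectionVars false
set_option linter.style.haveILetI false

namespace CfsgLib.FischerThompson

open scoped commutatorElement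
open Subgroup Module CfsgLib.Classical.Herm HermSpace CfsgLib.UnitaryTransv CfsgLib.U6Cover

variable {F : Type*} [Field F] [Fintype F] {hF : Fintype.card F = 2 ^ 2}
  {G : Type*} [Group G] [Finite G] {D : Set G} {X : Ctx hF G} {y : G} (P : Cfg hF D X y)

local notation "𝓚" => stdHerm hF 4

/-- The centraliser of the product of the two members. -/
def Cfg.C (_P : Cfg hF D X y) : Subgroup G := centralizer ({X.d * y} : Set G)

/-- What is needed of the ambient group. -/
structure Cfg.Amb (P : Cfg hF D X y) : Prop where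
  ctx : ∀ d ∈ D, ∃ Y : Ctx hF G, Y.d = d
  uniq : ∀ a ∈ D, ∀ b ∈ D, a ≠ b → Commute a b → a * b = X.d * y → (a = X.d ∧ b = y) ∨ (a = y ∧ b = X.d)
  swap : ∃ s, P.Swaps s

include P

theorem Cfg.K_le_C : P.K ≤ P.C := fun _ hk => mem_centralizer_singleton_iff.2 (P.z_comm hk).eq

theorem Cfg.swaps_mem_C {s : G} (hs : P.Swaps s) : s ∈ P.C :=
  mem_centralizer_singleton_iff.2 (mul_inv_eq_iff_eq_mul.1 hs.conj_z)

variable (A : P.Amb)

include A

/-- The centraliser permutes the two members. -/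
theorem Cfg.mem_C_cases {c : G} (hc : c ∈ P.C) : c ∈ P.K ∨ P.Swaps c := by
  have h1 : c * (X.d * y) * c⁻¹ = X.d * y := mul_inv_eq_iff_eq_mul.2 (mem_centralizer_singleton_iff.1 hc)
  have hconjD := (CfsgLib.ThreeTransp.class_to_group P.base.cls).2.1
  rcases A.uniq (c * X.d * c⁻¹) (hconjD c _ P.base.mem) (c * y * c⁻¹) (hconjD c _ P.mem)
      (fun h => P.ne (mul_left_cancel (mul_right_cancel h)).symm)
      (P.commute.map (MulAut.conj c).toMonoidHom)
      (by rw [show c * X.d * c⁻¹ * (c * y * c⁻¹) = c * (X.d * y) * c⁻¹ by group, h1]) with ⟨e1, e2⟩ | ⟨e1, e2⟩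
  · exact Or.inl ⟨mem_centralizer_singleton_iff.2 (mul_inv_eq_iff_eq_mul.1 e1),
      mem_centralizer_singleton_iff.2 (mul_inv_eq_iff_eq_mul.1 e2)⟩
  · exact Or.inr ⟨e1, e2⟩

theorem Cfg.index_K : (P.K.subgroupOf P.C).index = 2 := by
  obtain ⟨s, hs⟩ := A.swap
  refine Subgroup.index_eq_two_iff.2 ⟨⟨s, P.swaps_mem_C hs⟩, fun b => ?_⟩
  simp only [mem_subgroupOf, Subgroup.coe_mul]
  rcases P.mem_C_cases A b.2 with h | h
  · refine Or.inr ⟨h, fun hbs => P.ne ?_⟩
    have h' : (b : G)⁻¹ * (↑b * s) ∈ P.K := mul_mem (inv_mem h) hbs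
    rw [inv_mul_cancel_left] at h'
    rw [← hs.1]
    exact mul_inv_eq_iff_eq_mul.2 (mem_centralizer_singleton_iff.1 h'.1)
  · refine Or.inl ⟨⟨mem_centralizer_singleton_iff.2 (mul_inv_eq_iff_eq_mul.1 ?_),
      mem_centralizer_singleton_iff.2 (mul_inv_eq_iff_eq_mul.1 ?_)⟩, fun hb => P.ne ?_⟩
    · calc (b : G) * s * X.d * ((b : G) * s)⁻¹ = b * (s * X.d * s⁻¹) * (b : G)⁻¹ := by group
        _ = X.d := by rw [hs.1, h.2]
    · calc (b : G) * s * y * ((b : G) * s)⁻¹ = b * (s * y * s⁻¹) * (b : G)⁻¹ := by group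
        _ = y := by rw [hs.2, h.1]
    · rw [← h.1]
      exact mul_inv_eq_iff_eq_mul.2 (mem_centralizer_singleton_iff.1 hb.1)

theorem Cfg.conj_mem_E' {c e : G} (hc : c ∈ P.C) (he : e ∈ P.E) : c * e * c⁻¹ ∈ P.E := by
  rcases P.mem_C_cases A hc with h | h
  · exact P.conj_mem_E h he
  · exact h.conj_mem_E he

theorem Cfg.comm_mem {e f : G} (he : e ∈ P.E) (hf : f ∈ P.E) :
    e * f * e⁻¹ * f⁻¹ ∈ closure ({X.d, y} : Set G) ∧ e ^ 2 ∈ closure ({X.d, y} : Set G) := by
  obtain ⟨s, hs⟩ := A.swap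
  have hz : X.d * y ∈ closure ({X.d, y} : Set G) :=
    mul_mem (subset_closure (by simp)) (subset_closure (by simp))
  refine ⟨?_, ?_⟩
  · rcases P.comm_E hs he hf with h | h
    · rw [h, mul_inv_cancel_right, mul_inv_cancel]; exact one_mem _
    · rw [h, mul_assoc (f * e), ← ((P.z_comm (P.E_le he)).inv_left).eq, ← mul_assoc, mul_inv_cancel_right,
        mul_assoc, ← ((P.z_comm (P.E_le hf)).inv_left).eq, ← mul_assoc, mul_inv_cancel, one_mul]
      exact hz
  · rw [pow_two]
    rcases P.sq_E hs he with h | h <;> rw [h]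
    · exact one_mem _
    · exact hz

/-- An element centralising the subgroup lies in it. -/
theorem Cfg.centralizer_E_le {c : G} (hc : c ∈ P.C) (h : ∀ e ∈ P.E, c * e = e * c) : c ∈ P.E := by
  rcases P.mem_C_cases A hc with hk | hs
  · exact P.mem_E_of_centralizes hk fun e he => mul_inv_eq_iff_eq_mul.2 (h e he)
  · refine absurd ?_ P.ne
    rw [← hs.1]
    exact mul_inv_eq_iff_eq_mul.2 (h _ P.d_mem_E)

omit A in
/-- The centre of the joint centraliser. -/
theorem Cfg.center_K : (center ↥P.K).map P.K.subtype = closure ({X.d, y} : Set G) := by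
  apply le_antisymm
  · rintro _ ⟨k, hk, rfl⟩
    have hk1 : P.rho k = 1 := P.rho_one_of_commute (det_res hF _) fun m hm => by
      obtain ⟨k', rfl⟩ := (P.rho_range m).2 hm
      rw [← map_mul, ← map_mul, mem_center_iff.1 hk k']
    have hkE : (k : G) ∈ P.E := P.mem_E.2 ⟨k.2, hk1⟩
    have hd : X.d ∈ closure ({X.d, y} : Set G) := subset_closure (by simp)
    have hy : y ∈ closure ({X.d, y} : Set G) := subset_closure (by simp)
    show (k : G) ∈ closure ({X.d, y} : Set G)
    rcases P.center_E hkE (fun f hf => (congrArg Subtype.val (mem_center_iff.1 hk ⟨f, P.E_le hf⟩)).symm) with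
      r | r | r | r <;> rw [r]
    exacts [one_mem _, hd, hy, mul_mem hd hy]
  · rw [closure_le]
    rintro x (e | e)
    · exact ⟨⟨X.d, P.d_mem_K⟩, mem_center_iff.2 fun g => Subtype.ext (P.commute_d g.2).eq, e.symm⟩
    · exact ⟨⟨y, P.y_mem_K⟩, mem_center_iff.2 fun g => Subtype.ext (P.commute_y g.2).eq, e.symm⟩

theorem Cfg.normal_E : (P.E.subgroupOf P.C).Normal :=
  ⟨fun n hn c => mem_subgroupOf.2 (by
    rw [Subgroup.coe_mul, Subgroup.coe_mul, InvMemClass.coe_inv]
    exact P.conj_mem_E' A c.2 (mem_subgroupOf.1 hn))⟩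

/-- The image of the joint centraliser in the factor group. -/
theorem Cfg.exists_image [(P.E.subgroupOf P.C).Normal] :
    ∃ (N : Subgroup (↥P.C ⧸ P.E.subgroupOf P.C)) (_ : N.Normal), IsSimpleGroup N ∧
      Nonempty (↥N ≃* Cfsg.PSU 4 F 2) ∧ N.index = 2 ∧
      ∀ x : ↥P.C ⧸ P.E.subgroupOf P.C, (∀ n : N, x * (n : ↥P.C ⧸ P.E.subgroupOf P.C) =
        (n : ↥P.C ⧸ P.E.subgroupOf P.C) * x) → x = 1 := by
  let f : P.K →* ↥P.C ⧸ P.E.subgroupOf P.C :=
    (QuotientGroup.mk' (P.E.subgroupOf P.C)).comp (inclusion P.K_le_C)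
  have hker : f.ker = P.rho.ker := by
    ext k
    rw [MonoidHom.mem_ker, MonoidHom.mem_ker]
    show ((inclusion P.K_le_C k : P.C) : ↥P.C ⧸ P.E.subgroupOf P.C) = 1 ↔ _
    rw [QuotientGroup.eq_one_iff, mem_subgroupOf]
    show (k : G) ∈ P.E ↔ _
    exact ⟨fun h => (P.mem_E.1 h).choose_spec, fun h => P.mem_E.2 ⟨k.2, h⟩⟩
  haveI := isSimple_su_four hF
  have hbot : center (Cfsg.SU 4 F 2) = ⊥ := by
    refine eq_bot_iff.2 fun g hg => mem_bot.2 ?_
    have h1 : ((suEquiv hF 4) g).1 = 1 := P.rho_one_of_commute (MonoidHom.mem_ker.1 ((suEquiv hF 4) g).2)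
      fun m hm => by
        obtain ⟨b, hb⟩ := (suEquiv hF 4).surjective ⟨m, MonoidHom.mem_ker.2 hm⟩
        rw [show m = ((suEquiv hF 4) b).1 by rw [hb], ← Subgroup.coe_mul, ← Subgroup.coe_mul, ← map_mul, ← map_mul,
          mem_center_iff.1 hg b]
    exact (suEquiv hF 4).map_eq_one_iff.1 (Subtype.ext h1)
  let e0 : ↥f.range ≃* ↥P.rho.range := (QuotientGroup.quotientKerEquivRange f).symm.trans
    ((QuotientGroup.quotientMulEquivOfEq hker).trans (QuotientGroup.quotientKerEquivRange P.rho))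
  let e1 : Cfsg.SU 4 F 2 ≃* P.rho.range := (suEquiv hF 4).trans (MulEquiv.subgroupCongr (by
    ext m; rw [MonoidHom.mem_ker, MonoidHom.mem_range]; exact (P.rho_range m).symm))
  let e2 : Cfsg.SU 4 F 2 ≃* Cfsg.PSU 4 F 2 :=
    QuotientGroup.quotientBot.symm.trans (QuotientGroup.quotientMulEquivOfEq hbot.symm)
  let e : ↥f.range ≃* Cfsg.PSU 4 F 2 := e0.trans (e1.symm.trans e2)
  have hidx : f.range.index = 2 := by
    have h1 : f.range = (P.K.subgroupOf P.C).map (QuotientGroup.mk' (P.E.subgroupOf P.C)) := by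
      rw [MonoidHom.range_comp, Subgroup.inclusion_range]
    rw [h1, index_map_eq _ (QuotientGroup.mk'_surjective _) (by
      rw [QuotientGroup.ker_mk']; exact fun x hx => P.E_le (mem_subgroupOf.1 hx))]
    exact P.index_K A
  haveI : f.range.Normal := normal_of_index_eq_two hidx
  haveI : IsSimpleGroup P.rho.range := P.isSimple_range
  haveI : Nontrivial ↥f.range := e0.toEquiv.nontrivial
  have hsimple : IsSimpleGroup ↥f.range :=
    IsSimpleGroup.isSimpleGroup_of_surjective e0.symm.toMonoidHom e0.symm.surjective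
  refine ⟨f.range, inferInstance, hsimple, ⟨e⟩, hidx, fun x hx => ?_⟩
  obtain ⟨⟨c, hc⟩, rfl⟩ := QuotientGroup.mk_surjective x
  have hcK : ∀ k ∈ P.K, c * k * c⁻¹ * k⁻¹ ∈ P.E := by
    intro k hk
    have h1 := hx ⟨f ⟨k, hk⟩, ⟨k, hk⟩, rfl⟩
    have h2 : ((⟨c, hc⟩ * ⟨k, P.K_le_C hk⟩ * ⟨c, hc⟩⁻¹ * ⟨k, P.K_le_C hk⟩⁻¹ : P.C) :
        ↥P.C ⧸ P.E.subgroupOf P.C) = 1 := by
      simp only [QuotientGroup.mk_mul, QuotientGroup.mk_inv]
      rw [show (((⟨c, hc⟩ : P.C) : ↥P.C ⧸ P.E.subgroupOf P.C) * ((⟨k, P.K_le_C hk⟩ : P.C) : _)) =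
        ((⟨k, P.K_le_C hk⟩ : P.C) : ↥P.C ⧸ P.E.subgroupOf P.C) * ((⟨c, hc⟩ : P.C) : _) from h1]
      group
    rw [QuotientGroup.eq_one_iff, mem_subgroupOf] at h2
    exact h2
  rw [QuotientGroup.eq_one_iff, mem_subgroupOf]
  rcases P.mem_C_cases A hc with hk | hs
  · refine P.mem_E.2 ⟨hk, P.rho_one_of_commute (det_res hF _) fun m hm => ?_⟩
    obtain ⟨⟨k, hk'⟩, rfl⟩ := (P.rho_range m).2 hm
    obtain ⟨hm', h1⟩ := P.mem_E.1 (hcK k hk')
    have e3 : (⟨c * k * c⁻¹ * k⁻¹, hm'⟩ : P.K) * (⟨k, hk'⟩ * ⟨c, hk⟩) = ⟨c, hk⟩ * ⟨k, hk'⟩ :=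
      Subtype.ext (show c * k * c⁻¹ * k⁻¹ * (k * c) = c * k by group)
    have e4 := congrArg P.rho e3
    rw [map_mul, h1, one_mul, map_mul, map_mul] at e4
    exact e4
  · exact (P.outer A.ctx hs hcK).elim

/-- The factor group is the automorphism group of the unitary group of dimension four. -/
theorem Cfg.quot_iso [(P.E.subgroupOf P.C).Normal] :
    Nonempty (↥P.C ⧸ P.E.subgroupOf P.C ≃* MulAut (Cfsg.PSU 4 F 2)) := by
  obtain ⟨N, hN, -, ⟨e⟩, hidx, hfaith⟩ := P.exists_image A
  haveI : Finite (Cfsg.PSU 4 F 2) := Finite.of_equiv _ e.toEquiv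
  haveI : Fact (Nat.Prime 2) := ⟨Nat.prime_two⟩
  refine CfsgLib.LargeFischer.iso_mulAut N e hfaith ?_
  rw [CfsgLib.AutPSU.card_aut (F := F) (n := 4) (q := 2) 2 1 (by norm_num) hF (by norm_num) (by norm_num),
    ← card_mul_index N, hidx, Nat.card_congr e.toEquiv]
  norm_num [mul_comm]

theorem Cfg.isPGroup_E : IsPGroup 2 P.E := IsPGroup.of_card P.card_E

/-- The generalized Fitting subgroup of the centraliser. -/
theorem Cfg.genFitting_C :
    Cfsg.generalizedFittingSubgroup ↥P.C = P.E.subgroupOf P.C := by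
  haveI := P.normal_E A
  haveI : Fact (Nat.Prime 2) := ⟨Nat.prime_two⟩
  have hEC : P.E ≤ P.C := P.E_le.trans P.K_le_C
  have hp : IsPGroup 2 ↥(P.E.subgroupOf P.C) :=
    P.isPGroup_E A |>.of_equiv (subgroupOfEquivOfLe hEC).symm
  have hnil : Group.IsNilpotent ↥(P.E.subgroupOf P.C) := hp.isNilpotent
  have hEF : P.E.subgroupOf P.C ≤ Cfsg.fittingSubgroup ↥P.C :=
    CfsgLib.Components.le_fitting_of_normal inferInstance hnil
  obtain ⟨N, hN, hsimple, -, -, hfaith⟩ := P.exists_image A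
  have hncomm : ¬ ∀ a b : N, a * b = b * a := by
    intro hcomm
    obtain ⟨a, ha⟩ := exists_ne (1 : N)
    exact ha (Subtype.ext (hfaith _ fun n => congrArg Subtype.val (hcomm a n)))
  have hFE : Cfsg.fittingSubgroup ↥P.C ≤ P.E.subgroupOf P.C := by
    refine sSup_le fun M ⟨hMn, hMnil⟩ x hx => ?_
    haveI := hMn
    haveI := hMnil
    let M' := M.map (QuotientGroup.mk' (P.E.subgroupOf P.C))
    haveI : M'.Normal := hMn.map _ (QuotientGroup.mk'_surjective _)
    haveI : Group.IsNilpotent M' :=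
      Group.nilpotent_of_surjective ((QuotientGroup.mk' (P.E.subgroupOf P.C)).subgroupMap M)
        ((QuotientGroup.mk' (P.E.subgroupOf P.C)).subgroupMap_surjective M)
    haveI : IsSimpleGroup N := hsimple
    have hdisj : M' ⊓ N = ⊥ := by
      rcases (inferInstance : (M'.subgroupOf N).Normal).eq_bot_or_eq_top with h | h
      · rwa [subgroupOf_eq_bot, disjoint_iff, inf_comm, inf_comm] at h
      · exfalso
        rw [subgroupOf_eq_top] at h
        haveI : Group.IsNilpotent N := Group.nilpotent_of_mulEquiv (subgroupOfEquivOfLe h)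
        refine hncomm fun a b => ?_
        exact ((IsSimpleGroup.comm_iff_isSolvable (G := N)).2 inferInstance a b)
    have h1 : ((QuotientGroup.mk' (P.E.subgroupOf P.C)) x) = 1 := by
      refine hfaith _ fun n => ?_
      have hm : (QuotientGroup.mk' (P.E.subgroupOf P.C)) x ∈ M' := ⟨x, hx, rfl⟩
      have := Subgroup.commute_of_normal_of_disjoint M' N inferInstance hN (disjoint_iff.2 hdisj) _ _ hm n.2
      exact this.eq
    exact (QuotientGroup.eq_one_iff x).1 h1
  have hF : Cfsg.fittingSubgroup ↥P.C = P.E.subgroupOf P.C := le_antisymm hFE hEF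
  rw [CfsgLib.Components.genFitting_eq_fitting_of_layer_eq_bot, hF]
  refine CfsgLib.Components.centralizer_fitting_le_iff.1 fun c hc => ?_
  rw [hF]
  refine mem_subgroupOf.2 (P.centralizer_E_le A c.2 fun e he => ?_)
  exact (congrArg Subtype.val (mem_centralizer_iff.1 hc ⟨e, hEC he⟩ (by rw [hF]; exact he))).symm

/-- The subgroup is the product of a group of order two and an extraspecial group. -/
theorem Cfg.exists_extraspecial :
    ∃ H : Subgroup G, Cfsg.IsExtraspecial 2 H ∧ Nat.card H = 2 ^ 9 ∧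
      Nonempty (↥P.E ≃* Multiplicative (ZMod 2) × H) := by
  classical
  obtain ⟨s, hs⟩ := A.swap
  haveI : Fact (Nat.Prime 2) := ⟨Nat.prime_two⟩
  have hzd : X.d * y ≠ X.d := fun h => P.y_ne_one (mul_left_cancel (h.trans (mul_one _).symm))
  let S : Set (Subgroup G) := {H | H ≤ P.E ∧ X.d * y ∈ H ∧ X.d ∉ H}
  have hS : S.Nonempty := ⟨zpowers (X.d * y), zpowers_le.2 (mul_mem P.d_mem_E P.y_mem_E), mem_zpowers _, by
    intro hj
    obtain ⟨j, hj⟩ := mem_zpowers_iff.1 hj
    have hz2 : (X.d * y) ^ (2 : ℤ) = 1 := by rw [zpow_two]; exact P.z_sq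
    rcases Int.even_or_odd' j with ⟨i, rfl | rfl⟩
    · rw [zpow_mul, hz2, one_zpow] at hj
      exact P.d_ne_one hj.symm
    · rw [zpow_add, zpow_mul, hz2, one_zpow, zpow_one, one_mul] at hj
      exact hzd hj⟩
  obtain ⟨H, ⟨hHE, hzH, hdH⟩, hmax⟩ := (Set.toFinite S).exists_maximal hS
  have hnorm : ∀ e ∈ P.E, ∀ h ∈ H, e * h * e⁻¹ ∈ H := by
    intro e he h hh
    rcases P.comm_E hs he (hHE hh) with r | r <;> rw [r]
    · rwa [mul_inv_cancel_right]
    · rw [mul_assoc (h * e), ← ((P.z_comm (P.E_le he)).inv_left).eq, ← mul_assoc, mul_inv_cancel_right]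
      exact mul_mem hh hzH
  have hsq : ∀ e ∈ P.E, e * e ∈ H := by
    intro e he
    rcases P.sq_E hs he with r | r <;> rw [r]
    exacts [one_mem _, hzH]
  have hdec : ∀ e ∈ P.E, e ∈ H ∨ X.d * e ∈ H := by
    intro e he
    by_contra hcon
    push Not at hcon
    let H' : Subgroup G :=
      { carrier := {g | g ∈ P.E ∧ (g ∈ H ∨ e * g ∈ H)}
        one_mem' := ⟨one_mem _, Or.inl (one_mem _)⟩
        mul_mem' := by
          rintro a b ⟨ha, ha'⟩ ⟨hb, hb'⟩
          refine ⟨mul_mem ha hb, ?_⟩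
          rcases ha' with r | r <;> rcases hb' with t | t
          · exact Or.inl (mul_mem r t)
          · refine Or.inr ?_
            rw [show e * (a * b) = (e * a * e⁻¹) * (e * b) by group]
            exact mul_mem (hnorm e he a r) t
          · exact Or.inr (by rw [← mul_assoc]; exact mul_mem r t)
          · refine Or.inl ?_
            rw [show a * b = (e⁻¹ * (e * a) * e⁻¹⁻¹) * (e * e)⁻¹ * (e * b) by group]
            exact mul_mem (mul_mem (hnorm _ (inv_mem he) _ r) (inv_mem (hsq e he))) t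
        inv_mem' := by
          rintro a ⟨ha, ha'⟩
          refine ⟨inv_mem ha, ?_⟩
          rcases ha' with r | r
          · exact Or.inl (inv_mem r)
          · refine Or.inr ?_
            rw [show e * a⁻¹ = (e * (e * a)⁻¹ * e⁻¹) * (e * e) by group]
            exact mul_mem (hnorm e he _ (inv_mem r)) (hsq e he) }
    have hle : H ≤ H' := fun g hg => ⟨hHE hg, Or.inl hg⟩
    have heH' : e ∈ H' := ⟨he, Or.inr (hsq e he)⟩
    have hdH' : X.d ∈ H' := by
      by_contra hd'
      exact hcon.1 (hmax (show H' ∈ S from ⟨fun g (hg : g ∈ H') => hg.1, hle hzH, hd'⟩) hle heH')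
    obtain ⟨-, hd' | hd'⟩ := hdH'
    · exact hdH hd'
    · exact hcon.2 (by rw [← (P.commute_d (P.E_le he)).eq]; exact hd')
  have hdd : X.d * X.d = 1 := P.d_sq
  have hcom : ∀ g : H, Commute X.d (g : G) := fun g => (P.commute_d (P.E_le (hHE g.2))).symm
  let ι : Multiplicative (ZMod 2) × H →* P.E :=
    MonoidHom.mk' (fun p => ⟨X.d ^ (Multiplicative.toAdd p.1).val * p.2,
      mul_mem (pow_mem P.d_mem_E _) (hHE p.2.2)⟩) (by
      rintro ⟨a, g⟩ ⟨b, g'⟩
      apply Subtype.ext
      show X.d ^ (Multiplicative.toAdd (a * b)).val * ((g * g' : H) : G) = _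
      rw [toAdd_mul, ZMod.val_add, Subgroup.coe_mul]
      show _ = (X.d ^ (Multiplicative.toAdd a).val * g) * (X.d ^ (Multiplicative.toAdd b).val * g')
      have hpow : ∀ n : ℕ, X.d ^ (n % 2) = X.d ^ n := fun n => by
        conv_rhs => rw [← Nat.div_add_mod n 2, pow_add, pow_mul, pow_two, hdd, one_pow, one_mul]
      rw [hpow, pow_add]
      calc X.d ^ (Multiplicative.toAdd a).val * X.d ^ (Multiplicative.toAdd b).val * (↑g * ↑g')
          = X.d ^ (Multiplicative.toAdd a).val * (X.d ^ (Multiplicative.toAdd b).val * g) * g' := by group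
        _ = X.d ^ (Multiplicative.toAdd a).val * (g * X.d ^ (Multiplicative.toAdd b).val) * g' := by
            rw [((hcom g).pow_left _).eq]
        _ = _ := by group)
  have hbij : Function.Bijective ι := by
    refine ⟨(injective_iff_map_eq_one ι).2 ?_, ?_⟩
    · rintro ⟨a, g⟩ h
      have h' : X.d ^ (Multiplicative.toAdd a).val * (g : G) = 1 := congrArg Subtype.val h
      have hlt := ZMod.val_lt (Multiplicative.toAdd a)
      have ha0 : (Multiplicative.toAdd a).val = 0 := by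
        by_contra hne
        rw [show (Multiplicative.toAdd a).val = 1 by omega, pow_one] at h'
        exact hdH (by rw [eq_inv_of_mul_eq_one_left h']; exact inv_mem g.2)
      rw [ha0, pow_zero, one_mul] at h'
      exact Prod.ext (Multiplicative.toAdd.injective ((ZMod.val_eq_zero _).1 ha0)) (Subtype.ext h')
    · rintro ⟨e, he⟩
      rcases hdec e he with r | r
      · exact ⟨(1, ⟨e, r⟩), Subtype.ext (show X.d ^ (0 : ZMod 2).val * e = e by simp)⟩
      · exact ⟨(Multiplicative.ofAdd 1, ⟨X.d * e, r⟩), Subtype.ext (show X.d ^ (1 : ZMod 2).val * (X.d * e) = e by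
          rw [ZMod.val_one, pow_one, ← mul_assoc, hdd, one_mul])⟩
  let eι := MulEquiv.ofBijective ι hbij
  have hcardH : Nat.card H = 2 ^ 9 := by
    have h := Nat.card_congr eι.toEquiv
    rw [P.card_E, Nat.card_prod, Nat.card_congr Multiplicative.toAdd, Nat.card_zmod] at h
    omega
  have hpH : IsPGroup 2 H := IsPGroup.of_card hcardH
  have hcenter : ∀ g : H, g ∈ center ↥H ↔ (g : G) = 1 ∨ (g : G) = X.d * y := by
    intro g
    constructor
    · intro hg
      have h1 : ∀ f ∈ P.E, (g : G) * f = f * g := by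
        intro f hf
        rcases hdec f hf with r | r
        · exact (congrArg Subtype.val (mem_center_iff.1 hg ⟨f, r⟩)).symm
        · have h2 : Commute (g : G) (X.d * f) := (congrArg Subtype.val (mem_center_iff.1 hg ⟨X.d * f, r⟩)).symm
          have h3 := ((hcom g).symm).mul_right h2
          rw [← mul_assoc, hdd, one_mul] at h3
          exact h3.eq
      rcases P.center_E (hHE g.2) h1 with r | r | r | r
      · exact Or.inl r
      · exact absurd (r ▸ g.2) hdH
      · refine absurd ?_ hdH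
        have h2 := mul_mem hzH g.2
        rwa [r, mul_assoc, P.y_sq, mul_one] at h2
      · exact Or.inr r
    · rintro (r | r) <;> refine mem_center_iff.2 fun f => Subtype.ext ?_ <;>
        rw [Subgroup.coe_mul, Subgroup.coe_mul, r]
      · rw [one_mul, mul_one]
      · exact (P.z_comm (P.E_le (hHE f.2))).eq
  have hz1 : (⟨X.d * y, hzH⟩ : H) ≠ 1 := fun h => by
    have h' : X.d * y = 1 := congrArg Subtype.val h
    exact P.ne ((eq_inv_of_mul_eq_one_right h').trans (CfsgLib.ThreeTrans.inv_eq P.base.cls.1 P.base.mem))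
  have hcardZ : Nat.card (center ↥H) = 2 := by
    have h : (center ↥H : Set ↥H) = {1, ⟨X.d * y, hzH⟩} := Set.ext fun g => by
      rw [SetLike.mem_coe, hcenter, Set.mem_insert_iff, Set.mem_singleton_iff, Subtype.ext_iff, Subtype.ext_iff]
      rfl
    rw [← SetLike.coe_sort_coe, Nat.card_coe_set_eq, h, Set.ncard_pair hz1.symm]
  have hcommZ : commutator ↥H ≤ center ↥H := by
    rw [_root_.commutator_def, commutator_le]
    intro a _ b _
    rw [hcenter, commutatorElement_def]
    show (a : G) * b * (a : G)⁻¹ * (b : G)⁻¹ = 1 ∨ _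
    rcases P.comm_E hs (hHE a.2) (hHE b.2) with r | r
    · exact Or.inl (by rw [r]; group)
    · refine Or.inr ?_
      show (a : G) * b * (a : G)⁻¹ * (b : G)⁻¹ = X.d * y
      rw [r, mul_assoc ((b : G) * a), ← ((P.z_comm (P.E_le (hHE a.2))).inv_left).eq, ← mul_assoc,
        mul_inv_cancel_right, mul_assoc, ← ((P.z_comm (P.E_le (hHE b.2))).inv_left).eq, ← mul_assoc,
        mul_inv_cancel, one_mul]
  have hnab : commutator ↥H ≠ ⊥ := by
    intro h
    have hab : ∀ a b : H, a * b = b * a := fun a b => by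
      have h1 : ⁅a, b⁆ ∈ commutator ↥H := by
        rw [_root_.commutator_def]; exact commutator_mem_commutator (mem_top a) (mem_top b)
      rw [h, mem_bot] at h1
      exact commutatorElement_eq_one_iff_mul_comm.1 h1
    have htop : center ↥H = ⊤ := eq_top_iff.2 fun g _ => mem_center_iff.2 fun b => hab b g
    rw [htop, Subgroup.card_top, hcardH] at hcardZ
    norm_num at hcardZ
  have hcomm : commutator ↥H = center ↥H := by
    refine Subgroup.eq_of_le_of_card_ge hcommZ ?_
    rw [hcardZ]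
    exact one_lt_card_iff_ne_bot _ |>.2 hnab
  refine ⟨H, ⟨⟨hpH, ?_, hcomm⟩, hcardZ⟩, hcardH, ⟨eι.symm⟩⟩
  apply le_antisymm
  · haveI : (center ↥H).Normal := inferInstance
    refine CfsgLib.PGroup.frattini_le_of_elementary (p := 2) (fun a b => hcommZ ?_) fun g => ?_
    · rw [_root_.commutator_def]; exact commutator_mem_commutator (mem_top a) (mem_top b)
    · rw [hcenter]
      show (g : G) ^ 2 = 1 ∨ (g : G) ^ 2 = X.d * y
      rw [pow_two]
      exact P.sq_E hs (hHE g.2)
  · rw [← hcomm]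
    exact CfsgLib.PGroup.commutator_le_frattini hpH

end CfsgLib.FischerThompson
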